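import Cfsg.Agent.J2.HundredGens
import Cfsg.Agent.J2Sylow.SporSylow
import Cfsg.Prelude.Def_Classification2

/-!
# S3540, K6d: the Sylow 5-normaliser of `J₂` (helper199)

`J₂` on 100 points: `E = ⟨x, y⟩` of order 25; `d` of order 3 with `x ↦ y ↦ (x y)⁻¹`, `u` inverts `E`, `s` centralises `x`.
* `exists_five`: these elements exist in every `S ≅ J₂`;
* `card_five_le`: at most `12096 = 6 · 2016` subgroups of order 5.
-/

set_option autoImplicit false
set_option maxRecDepth 100000

namespace Cfsg.Agent.H199.HT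

open Cfsg Subgroup Cfsg.Agent.J2.HundredGens Cfsg.Agent.SporadicA.J2Hundred

universe u

/-- the element of a word -/
noncomputable def el (w : List ℕ) : ↥G := ⟨pw w, pw_mem w⟩

theorem el_mul (v w : List ℕ) : el v * el w = el (v ++ w) := Subtype.ext (pw_mul v w)

theorem el_inv (v : List ℕ) : (el v)⁻¹ = el v.reverse := Subtype.ext (pw_inv v)

theorem el_nil : el [] = 1 := rfl

theorem el_eq {v w : List ℕ} (h : chk v w = true) : el v = el w := Subtype.ext (pw_eq h)

theorem el_ne {v w : List ℕ} (i : Fin 100) (h : Nat.beq (run v i) (run w i) = false) : el v ≠ el w := by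
  intro h1
  have h2 : pw v = pw w := congrArg Subtype.val h1
  have h3 : run v i = run w i := by rw [← pw_val, ← pw_val, h2]
  rw [h3] at h
  have h4 : Nat.beq (run w i) (run w i) = true := Nat.beq_refl _
  rw [h4] at h
  exact absurd h (by decide)

/-- the word of a power -/
def rp (w : List ℕ) : ℕ → List ℕ
  | 0 => []
  | n + 1 => rp w n ++ w

theorem el_pow (w : List ℕ) (n : ℕ) : el w ^ n = el (rp w n) := by
  induction n with
  | zero => rfl
  | succ n ih => rw [pow_succ, ih, el_mul]; rfl

def wx : List ℕ := [1, 2, 0]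
def wy : List ℕ := [4, 3, 2, 3, 1, 2, 3, 1]
def wd : List ℕ := [0, 3, 2, 1, 3, 4, 3, 2, 1, 0, 3, 2, 1, 0, 4, 3, 2, 1, 3, 2, 3, 2, 4, 3]
def wu : List ℕ := [1, 4]
def ws : List ℕ := [4]

/-- the relations of the Sylow 5-normaliser -/
structure Five {S : Type*} [Group S] (x y d u : S) : Prop where
  x5 : x ^ 5 = 1
  y5 : y ^ 5 = 1
  xy : x * y = y * x
  x1 : x ≠ 1
  yx : ∀ k : ℕ, k < 5 → y ≠ x ^ k
  dx : d * x * d⁻¹ = y
  dy : d * y * d⁻¹ = x ^ 4 * y ^ 4
  ux : u * x * u⁻¹ = x ^ 4
  uy : u * y * u⁻¹ = y ^ 4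

/-- the additional relations in `J₂` -/
structure FiveN {S : Type*} [Group S] (x y d u s : S) : Prop extends Five x y d u where
  d3 : orderOf d = 3
  u2 : u ^ 2 = 1
  s2 : s ^ 2 = 1
  su : s * u = u * s
  u1 : u ≠ 1
  s1 : s ≠ 1
  us : u ≠ s
  sx : s * x * s⁻¹ = x
  sy : s * y * s⁻¹ = x ^ 4 * y ^ 4

theorem fiveN_G : FiveN (el wx) (el wy) (el wd) (el wu) (el ws) where
  x5 := by rw [el_pow]; exact el_eq (v := rp wx 5) (w := []) (by decide +kernel)
  y5 := by rw [el_pow]; exact el_eq (v := rp wy 5) (w := []) (by decide +kernel)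
  xy := by rw [el_mul, el_mul]; exact el_eq (by decide +kernel)
  x1 := el_ne (w := []) 1 (by decide +kernel)
  yx := by
    intro k hk
    rw [el_pow]
    interval_cases k
    · exact el_ne 0 (by decide +kernel)
    · exact el_ne 0 (by decide +kernel)
    · exact el_ne 0 (by decide +kernel)
    · exact el_ne 0 (by decide +kernel)
    · exact el_ne 0 (by decide +kernel)
  dx := by rw [el_inv, el_mul, el_mul]; exact el_eq (by decide +kernel)
  dy := by rw [el_inv, el_mul, el_mul, el_pow, el_pow, el_mul]; exact el_eq (by decide +kernel)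
  ux := by rw [el_inv, el_mul, el_mul, el_pow]; exact el_eq (by decide +kernel)
  uy := by rw [el_inv, el_mul, el_mul, el_pow]; exact el_eq (by decide +kernel)
  d3 := by
    have : Fact (Nat.Prime 3) := ⟨by norm_num⟩
    apply orderOf_eq_prime
    · rw [el_pow]; exact el_eq (v := rp wd 3) (w := []) (by decide +kernel)
    · exact el_ne (w := []) 0 (by decide +kernel)
  u2 := by rw [el_pow]; exact el_eq (v := rp wu 2) (w := []) (by decide +kernel)
  s2 := by rw [el_pow]; exact el_eq (v := rp ws 2) (w := []) (by decide +kernel)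
  su := by rw [el_mul, el_mul]; exact el_eq (by decide +kernel)
  u1 := el_ne (w := []) 0 (by decide +kernel)
  s1 := el_ne (w := []) 0 (by decide +kernel)
  us := el_ne 0 (by decide +kernel)
  sx := by rw [el_inv, el_mul, el_mul]; exact el_eq (by decide +kernel)
  sy := by rw [el_inv, el_mul, el_mul, el_pow, el_pow, el_mul]; exact el_eq (by decide +kernel)

theorem Five.map {S T : Type*} [Group S] [Group T] {x y d u : S} (h : Five x y d u) {f : S →* T}
    (hf : Function.Injective f) : Five (f x) (f y) (f d) (f u) where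
  x5 := by rw [← map_pow, h.x5, map_one]
  y5 := by rw [← map_pow, h.y5, map_one]
  xy := by rw [← map_mul, h.xy, map_mul]
  x1 := fun h1 => h.x1 (hf (by rw [h1, map_one]))
  yx := fun k hk h1 => h.yx k hk (hf (by rw [h1, map_pow]))
  dx := by rw [← map_inv, ← map_mul, ← map_mul, h.dx]
  dy := by rw [← map_inv, ← map_mul, ← map_mul, h.dy, map_mul, map_pow, map_pow]
  ux := by rw [← map_inv, ← map_mul, ← map_mul, h.ux, map_pow]
  uy := by rw [← map_inv, ← map_mul, ← map_mul, h.uy, map_pow]

theorem FiveN.map {S T : Type*} [Group S] [Group T] {x y d u s : S} (h : FiveN x y d u s) {f : S →* T}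
    (hf : Function.Injective f) : FiveN (f x) (f y) (f d) (f u) (f s) where
  toFive := h.toFive.map hf
  d3 := by rw [orderOf_injective f hf, h.d3]
  u2 := by rw [← map_pow, h.u2, map_one]
  s2 := by rw [← map_pow, h.s2, map_one]
  su := by rw [← map_mul, h.su, map_mul]
  u1 := fun h1 => h.u1 (hf (by rw [h1, map_one]))
  s1 := fun h1 => h.s1 (hf (by rw [h1, map_one]))
  us := fun h1 => h.us (hf h1)
  sx := by rw [← map_inv, ← map_mul, ← map_mul, h.sx]
  sy := by rw [← map_inv, ← map_mul, ← map_mul, h.sy, map_mul, map_pow, map_pow]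

/-- the elements exist in `J₂` -/
theorem exists_fiveN {S : Type*} [Group S] (h : Spor.IsoJ2 S) : ∃ x y d u s : S, FiveN x y d u s := by
  obtain ⟨e⟩ := h
  obtain ⟨f⟩ := J2_iso Cfsg.Agent.J2Sylow.SporSylow.card_J2
  have h1 := fiveN_G.map (f := (e.trans f).symm.toMonoidHom) (e.trans f).symm.injective
  exact ⟨_, _, _, _, _, h1⟩

theorem card_J2 {S : Type*} [Group S] (h : Spor.IsoJ2 S) : Nat.card S = 604800 := by
  obtain ⟨e⟩ := h
  rw [Nat.card_congr e.toEquiv, Cfsg.Agent.J2Sylow.SporSylow.card_J2]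

/-! ### The plane `E = ⟨x, y⟩` -/

section

variable {S : Type*} [Group S] {x y d u : S}

theorem Five.comm (h : Five x y d u) : Commute x y := h.xy

theorem Five.pow_mod (h : Five x y d u) (i : ℕ) : x ^ i = x ^ (i % 5) := by
  conv_lhs => rw [← Nat.div_add_mod i 5, pow_add, pow_mul, h.x5, one_pow, one_mul]

theorem Five.pow_mod' (h : Five x y d u) (i : ℕ) : y ^ i = y ^ (i % 5) := by
  conv_lhs => rw [← Nat.div_add_mod i 5, pow_add, pow_mul, h.y5, one_pow, one_mul]

/-- the plane -/
def Pl (x y : S) (hxy : x * y = y * x) (hx : x ^ 5 = 1) (hy : y ^ 5 = 1) : Subgroup S where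
  carrier := {g | ∃ i j : ℕ, g = x ^ i * y ^ j}
  one_mem' := ⟨0, 0, by simp⟩
  mul_mem' := by
    rintro _ _ ⟨i, j, rfl⟩ ⟨k, l, rfl⟩
    have hc : Commute (y ^ j) (x ^ k) := (Commute.pow_pow (show Commute y x from hxy.symm) j k)
    refine ⟨i + k, j + l, ?_⟩
    rw [pow_add, pow_add]
    calc x ^ i * y ^ j * (x ^ k * y ^ l) = x ^ i * (y ^ j * x ^ k) * y ^ l := by group
      _ = x ^ i * (x ^ k * y ^ j) * y ^ l := by rw [hc.eq]
      _ = x ^ i * x ^ k * (y ^ j * y ^ l) := by group
  inv_mem' := by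
    rintro _ ⟨i, j, rfl⟩
    refine ⟨4 * i, 4 * j, ?_⟩
    have hc : Commute (x ^ (4 * i)) (y ^ j) := (Commute.pow_pow (show Commute x y from hxy) _ _)
    rw [inv_eq_iff_mul_eq_one]
    calc x ^ i * y ^ j * (x ^ (4 * i) * y ^ (4 * j)) = x ^ i * (y ^ j * x ^ (4 * i)) * y ^ (4 * j) := by group
      _ = x ^ i * (x ^ (4 * i) * y ^ j) * y ^ (4 * j) := by rw [hc.eq]
      _ = x ^ (5 * i) * y ^ (5 * j) := by
        rw [show 5 * i = i + 4 * i by ring, show 5 * j = j + 4 * j by ring, pow_add, pow_add]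
        group
      _ = 1 := by rw [pow_mul, pow_mul, hx, hy]; simp

def Five.pl (h : Five x y d u) : Subgroup S := Pl x y h.xy h.x5 h.y5

theorem Five.mem_pl (h : Five x y d u) {g : S} : g ∈ h.pl ↔ ∃ i j : ℕ, g = x ^ i * y ^ j := Iff.rfl

theorem Five.mem_pl' (h : Five x y d u) {g : S} : g ∈ h.pl ↔ ∃ i j : ℕ, i < 5 ∧ j < 5 ∧ g = x ^ i * y ^ j := by
  constructor
  · rintro ⟨i, j, rfl⟩
    exact ⟨i % 5, j % 5, Nat.mod_lt _ (by norm_num), Nat.mod_lt _ (by norm_num), by rw [← h.pow_mod, ← h.pow_mod']⟩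
  · rintro ⟨i, j, -, -, rfl⟩
    exact ⟨i, j, rfl⟩

theorem Five.orderOf_x (h : Five x y d u) : orderOf x = 5 := by
  have : Fact (Nat.Prime 5) := ⟨by norm_num⟩
  exact orderOf_eq_prime h.x5 h.x1

theorem Five.y1 (h : Five x y d u) : y ≠ 1 := by
  have := h.yx 0 (by norm_num)
  rwa [pow_zero] at this

theorem Five.orderOf_y (h : Five x y d u) : orderOf y = 5 := by
  have : Fact (Nat.Prime 5) := ⟨by norm_num⟩
  exact orderOf_eq_prime h.y5 h.y1

/-- coordinates are unique -/
theorem Five.inj (h : Five x y d u) {i j : ℕ} (hij : x ^ i * y ^ j = 1) : i % 5 = 0 ∧ j % 5 = 0 := by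
  have hj : j % 5 = 0 := by
    by_contra hj
    -- `y = x ^ k`
    obtain ⟨m, hm⟩ : ∃ m : ℕ, (j * m) % 5 = 1 := by
      have : j % 5 = 1 ∨ j % 5 = 2 ∨ j % 5 = 3 ∨ j % 5 = 4 := by omega
      rcases this with h | h | h | h
      · exact ⟨1, by omega⟩
      · exact ⟨3, by omega⟩
      · exact ⟨2, by omega⟩
      · exact ⟨4, by omega⟩
    have h1 : (x ^ i * y ^ j) ^ m = 1 := by rw [hij, one_pow]
    have hc : Commute (x ^ i) (y ^ j) := h.comm.pow_pow i j
    rw [hc.mul_pow, ← pow_mul, ← pow_mul, h.pow_mod' (j * m), hm, pow_one] at h1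
    have h2 : y = x ^ (4 * (i * m)) := by
      have h3 : y = (x ^ (i * m))⁻¹ := (inv_eq_of_mul_eq_one_right h1).symm
      rw [h3, inv_eq_iff_mul_eq_one, ← pow_add, show i * m + 4 * (i * m) = 5 * (i * m) by ring, pow_mul, h.x5, one_pow]
    rw [h.pow_mod] at h2
    exact h.yx _ (Nat.mod_lt _ (by norm_num)) h2
  refine ⟨?_, hj⟩
  rw [h.pow_mod' j, hj, pow_zero, mul_one] at hij
  have := orderOf_dvd_of_pow_eq_one hij
  rw [h.orderOf_x] at this
  omega

theorem Five.inj' (h : Five x y d u) {i j k l : ℕ} (hi : x ^ i * y ^ j = x ^ k * y ^ l) :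
    i % 5 = k % 5 ∧ j % 5 = l % 5 := by
  have h1 : x ^ (i + 4 * k) * y ^ (j + 4 * l) = 1 := by
    have hc : Commute (y ^ j) (x ^ (4 * k)) := (h.comm.pow_pow _ _).symm
    have hc2 : Commute (y ^ l) (x ^ (4 * k)) := (h.comm.pow_pow _ _).symm
    calc x ^ (i + 4 * k) * y ^ (j + 4 * l) = x ^ i * (x ^ (4 * k) * y ^ j) * y ^ (4 * l) := by
          rw [pow_add, pow_add]; group
      _ = x ^ i * (y ^ j * x ^ (4 * k)) * y ^ (4 * l) := by rw [hc.eq]
      _ = (x ^ i * y ^ j) * x ^ (4 * k) * y ^ (4 * l) := by group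
      _ = (x ^ k * y ^ l) * x ^ (4 * k) * y ^ (4 * l) := by rw [hi]
      _ = x ^ k * (y ^ l * x ^ (4 * k)) * y ^ (4 * l) := by group
      _ = x ^ k * (x ^ (4 * k) * y ^ l) * y ^ (4 * l) := by rw [hc2.eq]
      _ = x ^ (5 * k) * y ^ (5 * l) := by
        rw [show 5 * k = k + 4 * k by ring, show 5 * l = l + 4 * l by ring, pow_add, pow_add]; group
      _ = 1 := by rw [pow_mul, pow_mul, h.x5, h.y5]; simp
  obtain ⟨h2, h3⟩ := h.inj h1
  constructor <;> omega

theorem Five.card_pl (h : Five x y d u) : Nat.card h.pl = 25 := by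
  have e : (Fin 5 × Fin 5) ≃ h.pl := Equiv.ofBijective
    (fun ij => ⟨x ^ (ij.1 : ℕ) * y ^ (ij.2 : ℕ), ij.1, ij.2, rfl⟩) (by
      constructor
      · rintro ⟨i, j⟩ ⟨k, l⟩ hij
        have h1 : (i : ℕ) % 5 = (k : ℕ) % 5 ∧ (j : ℕ) % 5 = (l : ℕ) % 5 := h.inj' (congrArg Subtype.val hij)
        have hi := i.2; have hj := j.2; have hk := k.2; have hl := l.2
        apply Prod.ext
        · apply Fin.ext
          have := h1.1
          show (i : ℕ) = k
          omega
        · apply Fin.ext
          have := h1.2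
          show (j : ℕ) = l
          omega
      · rintro ⟨g, hg⟩
        obtain ⟨i, j, hi, hj, rfl⟩ := h.mem_pl'.1 hg
        exact ⟨(⟨i, hi⟩, ⟨j, hj⟩), rfl⟩)
  rw [← Nat.card_congr e]
  simp

theorem Five.pow_five (h : Five x y d u) {g : S} (hg : g ∈ h.pl) : g ^ 5 = 1 := by
  obtain ⟨i, j, rfl⟩ := hg
  rw [(h.comm.pow_pow i j).mul_pow, ← pow_mul, ← pow_mul, mul_comm i, mul_comm j, pow_mul, pow_mul, h.x5, h.y5]
  simp

theorem Five.comm_pl (h : Five x y d u) {g k : S} (hg : g ∈ h.pl) (hk : k ∈ h.pl) : g * k = k * g := by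
  obtain ⟨i, j, rfl⟩ := hg
  obtain ⟨k, l, rfl⟩ := hk
  have h1 : Commute (x ^ i * y ^ j) (x ^ k * y ^ l) := by
    apply Commute.mul_left
    · exact ((Commute.refl x).pow_pow i k).mul_right (h.comm.pow_pow i l)
    · exact (h.comm.symm.pow_pow j k).mul_right ((Commute.refl y).pow_pow j l)
  exact h1.eq

/-- the plane is a Sylow `5`-subgroup -/
theorem Five.exists_sylow [Finite S] (h : Five x y d u) (h5 : (Nat.card S).factorization 5 = 2) :
    ∃ P : Sylow 5 S, (P : Subgroup S) = h.pl := by
  have : Fact (Nat.Prime 5) := ⟨by norm_num⟩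
  exact ⟨Sylow.ofCard h.pl (by rw [h.card_pl, h5]; norm_num), rfl⟩

/-- conjugation by an element acts on the plane -/
theorem mem_pl_of_gens (h : Five x y d u) {g : S} (hx : g * x * g⁻¹ ∈ h.pl) (hy : g * y * g⁻¹ ∈ h.pl) :
    g ∈ normalizer (h.pl : Set S) := by
  have h1 : h.pl.map (MulAut.conj g).toMonoidHom ≤ h.pl := by
    rintro _ ⟨_, ⟨i, j, rfl⟩, rfl⟩
    simp only [MulEquiv.coe_toMonoidHom, map_mul, map_pow, MulAut.conj_apply]
    exact mul_mem (pow_mem hx _) (pow_mem hy _)
  have hfin : Finite h.pl := Nat.finite_of_card_ne_zero (by rw [h.card_pl]; norm_num)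
  have h2 : h.pl.map (MulAut.conj g).toMonoidHom = h.pl := by
    apply eq_of_le_of_card_ge h1
    rw [Nat.card_congr (h.pl.equivMapOfInjective _ (MulAut.conj g).injective).toEquiv.symm]
  rw [mem_normalizer_iff]
  intro e
  constructor
  · intro he
    exact h1 ⟨e, he, rfl⟩
  · intro he
    rw [← h2] at he
    obtain ⟨e', he', h3⟩ := he
    have h4 : e' = e := (MulAut.conj g).injective h3
    rw [← h4]; exact he'

theorem FiveN.norm {s : S} [Finite S] (h : FiveN x y d u s) : 300 ≤ Nat.card (normalizer (h.pl : Set S)) := by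
  have hd : d ∈ normalizer (h.pl : Set S) := mem_pl_of_gens h.toFive
    (by rw [h.dx]; exact ⟨0, 1, by simp⟩) (by rw [h.dy]; exact ⟨4, 4, rfl⟩)
  have hu : u ∈ normalizer (h.pl : Set S) := mem_pl_of_gens h.toFive
    (by rw [h.ux]; exact ⟨4, 0, by simp⟩) (by rw [h.uy]; exact ⟨0, 4, by simp⟩)
  have hs : s ∈ normalizer (h.pl : Set S) := mem_pl_of_gens h.toFive
    (by rw [h.sx]; exact ⟨1, 0, by simp⟩) (by rw [h.sy]; exact ⟨4, 4, rfl⟩)
  have d25 : 25 ∣ Nat.card (normalizer (h.pl : Set S)) := by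
    rw [← h.card_pl]; exact card_dvd_of_le le_normalizer
  have d3 : 3 ∣ Nat.card (normalizer (h.pl : Set S)) := by
    have h1 : orderOf (⟨d, hd⟩ : normalizer (h.pl : Set S)) = 3 := by rw [← h.d3]; exact orderOf_mk _ hd
    rw [← h1]; exact orderOf_dvd_natCard _
  have d4 : 4 ∣ Nat.card (normalizer (h.pl : Set S)) := by
    -- the four-group
    let V : Subgroup S :=
      { carrier := {1, u, s, s * u}
        one_mem' := by simp
        mul_mem' := by
          have e1 : u * u = 1 := by rw [← pow_two, h.u2]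
          have e2 : s * s = 1 := by rw [← pow_two, h.s2]
          have e3 : u * s = s * u := h.su.symm
          have e4 : u * (s * u) = s := by rw [← mul_assoc, e3, mul_assoc, e1, mul_one]
          have e5 : s * (s * u) = u := by rw [← mul_assoc, e2, one_mul]
          have e6 : s * u * u = s := by rw [mul_assoc, e1, mul_one]
          have e7 : s * u * s = u := by rw [mul_assoc, e3, ← mul_assoc, e2, one_mul]
          have e8 : s * u * (s * u) = 1 := by rw [mul_assoc, e4, e2]
          intro a b ha hb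
          simp only [Set.mem_insert_iff, Set.mem_singleton_iff] at ha hb ⊢
          rcases ha with ha | ha | ha | ha <;> rcases hb with hb | hb | hb | hb <;> rw [ha, hb]
          · left; rw [mul_one]
          · right; left; rw [one_mul]
          · right; right; left; rw [one_mul]
          · right; right; right; rw [one_mul]
          · right; left; rw [mul_one]
          · left; exact e1
          · right; right; right; exact e3
          · right; right; left; exact e4
          · right; right; left; rw [mul_one]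
          · right; right; right; rfl
          · left; exact e2
          · right; left; exact e5
          · right; right; right; rw [mul_one]
          · right; right; left; exact e6
          · right; left; exact e7
          · left; exact e8
        inv_mem' := by
          have e1 : u⁻¹ = u := inv_eq_of_mul_eq_one_left (by rw [← pow_two, h.u2])
          have e2 : s⁻¹ = s := inv_eq_of_mul_eq_one_left (by rw [← pow_two, h.s2])
          intro a ha
          simp only [Set.mem_insert_iff, Set.mem_singleton_iff] at ha ⊢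
          rcases ha with ha | ha | ha | ha <;> rw [ha]
          · left; exact inv_one
          · right; left; exact e1
          · right; right; left; exact e2
          · right; right; right; rw [mul_inv_rev, e1, e2, h.su] }
    have hV : V ≤ normalizer (h.pl : Set S) := by
      intro a ha
      have ha' : a = 1 ∨ a = u ∨ a = s ∨ a = s * u := ha
      rcases ha' with ha | ha | ha | ha <;> rw [ha]
      · exact one_mem _
      · exact hu
      · exact hs
      · exact mul_mem hs hu
    have h1 := card_dvd_of_le hV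
    have e1 : u * u = 1 := by rw [← pow_two, h.u2]
    have h2 : Nat.card V = 4 := by
      have h3 : s * u ≠ 1 := by
        intro h4
        have h5 : s = u := by
          have := congrArg (· * u) h4
          simpa [mul_assoc, e1] using this
        exact h.us h5.symm
      have h4 : u ≠ s * u := by
        intro h5
        exact h.s1 (mul_right_cancel (b := u) (by rw [one_mul, ← h5]))
      have h5 : s ≠ s * u := by
        intro h6
        exact h.u1 (mul_left_cancel (a := s) (by rw [mul_one, ← h6]))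
      have h6 : (V : Set S) = {1, u, s, s * u} := rfl
      have h7 : Nat.card V = (V : Set S).ncard := rfl
      rw [h7, h6, Set.ncard_insert_of_notMem, Set.ncard_insert_of_notMem, Set.ncard_insert_of_notMem,
        Set.ncard_singleton]
      · simpa using h5
      · simp only [Set.mem_insert_iff, Set.mem_singleton_iff, not_or]
        exact ⟨h.us, h4⟩
      · simp only [Set.mem_insert_iff, Set.mem_singleton_iff, not_or]
        exact ⟨h.u1.symm, h.s1.symm, h3.symm⟩
    rwa [h2] at h1
  have hpos : 0 < Nat.card (normalizer (h.pl : Set S)) := Nat.card_pos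
  have h100 : 300 ∣ Nat.card (normalizer (h.pl : Set S)) := by
    have h1 : 75 ∣ Nat.card (normalizer (h.pl : Set S)) :=
      Nat.Coprime.mul_dvd_of_dvd_of_dvd (by norm_num : Nat.Coprime 25 3) d25 d3
    exact Nat.Coprime.mul_dvd_of_dvd_of_dvd (by norm_num : Nat.Coprime 75 4) h1 d4
  exact Nat.le_of_dvd hpos h100

/-- generators of the six lines -/
def pt (x y : S) (i : Fin 6) : S := if (i : ℕ) = 5 then y else x * y ^ (i : ℕ)

theorem Five.pt_mem (h : Five x y d u) (i : Fin 6) : pt x y i ∈ h.pl := by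
  unfold pt
  split_ifs
  · exact ⟨0, 1, by simp⟩
  · exact ⟨1, i, by simp⟩

theorem Five.line_cases (h : Five x y d u) {R : Subgroup S} (hR : R ≤ h.pl) (h5 : Nat.card R = 5) :
    ∃ i : Fin 6, R = zpowers (pt x y i) := by
  have hfin : Finite R := Nat.finite_of_card_ne_zero (by rw [h5]; norm_num)
  have f5 : Fact (Nat.Prime 5) := ⟨by norm_num⟩
  have gen : ∀ g ∈ R, g ≠ 1 → R = zpowers g := by
    intro g hg hg1
    symm
    apply eq_of_le_of_card_ge (zpowers_le.2 hg)
    rw [Nat.card_zpowers, orderOf_eq_prime (h.pow_five (hR hg)) hg1, h5]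
  obtain ⟨⟨g, hg⟩, hg1⟩ : ∃ g : R, g ≠ 1 := by
    have : Nontrivial R := Finite.one_lt_card_iff_nontrivial.1 (by rw [h5]; norm_num)
    exact exists_ne 1
  have hg1' : g ≠ 1 := fun e => hg1 (Subtype.ext e)
  obtain ⟨i, j, hi, hj, hgij⟩ := h.mem_pl'.1 (hR hg)
  by_cases h0 : i = 0
  · subst h0
    refine ⟨5, ?_⟩
    have hp5 : pt x y 5 = y := rfl
    rw [hp5]
    rw [pow_zero, one_mul] at hgij
    -- `y` is a power of `g`
    obtain ⟨m, hm⟩ : ∃ m : ℕ, (j * m) % 5 = 1 := by
      have hj0 : j ≠ 0 := by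
        rintro rfl
        exact hg1' (by rw [hgij, pow_zero])
      have : j = 1 ∨ j = 2 ∨ j = 3 ∨ j = 4 := by omega
      rcases this with h | h | h | h
      · exact ⟨1, by omega⟩
      · exact ⟨3, by omega⟩
      · exact ⟨2, by omega⟩
      · exact ⟨4, by omega⟩
    apply gen y _ h.y1
    have : y = g ^ m := by rw [hgij, ← pow_mul, h.pow_mod' (j * m), hm, pow_one]
    rw [this]
    exact R.pow_mem hg m
  · obtain ⟨m, hm⟩ : ∃ m : ℕ, (i * m) % 5 = 1 := by
      have : i = 1 ∨ i = 2 ∨ i = 3 ∨ i = 4 := by omega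
      rcases this with h | h | h | h
      · exact ⟨1, by omega⟩
      · exact ⟨3, by omega⟩
      · exact ⟨2, by omega⟩
      · exact ⟨4, by omega⟩
    have h1 : g ^ m = x * y ^ ((j * m) % 5) := by
      rw [hgij, (h.comm.pow_pow i j).mul_pow, ← pow_mul, ← pow_mul, h.pow_mod (i * m), hm, pow_one, h.pow_mod']
    refine ⟨⟨(j * m) % 5, by omega⟩, ?_⟩
    have h2 : pt x y ⟨(j * m) % 5, by omega⟩ = x * y ^ ((j * m) % 5) := by
      unfold pt
      rw [if_neg]
      show (j * m) % 5 ≠ 5
      omega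
    rw [h2, ← h1]
    apply gen _ (R.pow_mem hg m)
    rw [h1]
    intro h3
    have h4 := (h.inj (i := 1) (j := (j * m) % 5) (by rw [pow_one]; exact h3)).1
    omega

/-- **the number of subgroups of order 5** -/
theorem FiveN.card_le {s : S} [Finite S] (h : FiveN x y d u s) (hS : Nat.card S = 604800) :
    Nat.card {R : Subgroup S // Nat.card R = 5} ≤ 12096 := by
  have f5 : Fact (Nat.Prime 5) := ⟨by norm_num⟩
  obtain ⟨P, hP⟩ := h.toFive.exists_sylow (by
    rw [hS, show (604800 : ℕ) = 5 ^ 2 * 24192 by norm_num, Nat.factorization_mul (by norm_num) (by norm_num),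
      Finsupp.add_apply, Nat.Prime.factorization_pow (by norm_num), Finsupp.single_eq_same,
      Nat.factorization_eq_zero_of_not_dvd (by norm_num)])
  have h1 : Nat.card (Sylow 5 S) ≤ 2016 := by
    have h2 := P.card_eq_index_normalizer
    have h3 := Subgroup.card_mul_index (normalizer ((P : Subgroup S) : Set S))
    have h4 := h.norm
    rw [← hP] at h4
    rw [hS] at h3
    have h5 : 300 * Nat.card (Sylow 5 S) ≤ 604800 := by
      rw [← h3, h2]
      exact Nat.mul_le_mul_right _ h4
    omega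
  choose g hg using fun Q : Sylow 5 S => MulAction.exists_smul_eq S P Q
  let f : Sylow 5 S × Fin 6 → {R : Subgroup S // Nat.card R = 5} := fun a =>
    ⟨(zpowers (pt x y a.2)).map (MulAut.conj (g a.1)).toMonoidHom, by
      rw [Nat.card_congr ((zpowers (pt x y a.2)).equivMapOfInjective _ (MulAut.conj (g a.1)).injective).toEquiv.symm,
        Nat.card_zpowers]
      apply orderOf_eq_prime (h.toFive.pow_five (h.toFive.pt_mem _))
      intro h2
      by_cases h3 : (a.2 : ℕ) = 5
      · rw [pt, if_pos h3] at h2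
        exact h.toFive.y1 h2
      · rw [pt, if_neg h3] at h2
        have h4 := (h.toFive.inj (i := 1) (j := a.2) (by rw [pow_one]; exact h2)).1
        omega⟩
  have hf : Function.Surjective f := by
    rintro ⟨R, hR⟩
    have hRp : IsPGroup 5 R := IsPGroup.of_card (n := 1) (by rw [hR, pow_one])
    obtain ⟨Q, hQ⟩ := hRp.exists_le_sylow
    have h2 : R.map (MulAut.conj (g Q)⁻¹).toMonoidHom ≤ h.toFive.pl := by
      rw [← hP]
      rintro _ ⟨r, hr, rfl⟩
      have h3 := hQ hr
      rw [← hg Q] at h3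
      have h4 : r ∈ ((P : Subgroup S).map (MulAut.conj (g Q)).toMonoidHom) := h3
      obtain ⟨r', hr', rfl⟩ := h4
      have h5 : (MulAut.conj (g Q)⁻¹).toMonoidHom ((MulAut.conj (g Q)).toMonoidHom r') = r' := by
        simp only [MulEquiv.coe_toMonoidHom, MulAut.conj_apply]
        group
      rw [h5]
      exact hr'
    obtain ⟨i, hi⟩ := h.toFive.line_cases h2 (by
      rw [Nat.card_congr (R.equivMapOfInjective _ (MulAut.conj (g Q)⁻¹).injective).toEquiv.symm, hR])
    refine ⟨(Q, i), Subtype.ext ?_⟩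
    show (zpowers (pt x y i)).map (MulAut.conj (g Q)).toMonoidHom = R
    rw [← hi, Subgroup.map_map]
    have h5 : ((MulAut.conj (g Q)).toMonoidHom.comp (MulAut.conj (g Q)⁻¹).toMonoidHom) = MonoidHom.id S := by
      ext r
      simp only [MonoidHom.comp_apply, MulEquiv.coe_toMonoidHom, MulAut.conj_apply, MonoidHom.id_apply]
      group
    rw [h5, Subgroup.map_id]
  have h2 := Nat.card_le_card_of_surjective f hf
  rw [Nat.card_prod, Nat.card_eq_fintype_card (α := Fin 6), Fintype.card_fin] at h2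
  omega

end

/-- **`J₂` has at most `12096` subgroups of order 5** -/
theorem card_five_le {S : Type*} [Group S] (h : Spor.IsoJ2 S) : Nat.card {R : Subgroup S // Nat.card R = 5} ≤ 12096 := by
  obtain ⟨x, y, d, u, s, h1⟩ := exists_fiveN h
  have : Finite S := Nat.finite_of_card_ne_zero (by rw [card_J2 h]; norm_num)
  exact h1.card_le (card_J2 h)

end Cfsg.Agent.H199.HT
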