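import Cfsg.Agent.H199.HT.Plane
import Cfsg.Agent.H578.HT.Cov
import Cfsg.Agent.S2066

/-!
# S3540, K6d: `J₂` in dimension 6 (helper199)
-/

set_option autoImplicit false
set_option linter.unusedSectionVars false

universe u w

namespace Cfsg.Agent.H199.HT

open Cfsg Cfsg.Agent.H828.HT Cfsg.Agent.H337.HT Subgroup

theorem card_aut {S : Type*} [Group S] (h : Spor.IsoJ2 S) (hc : center S = ⊥) : Nat.card (MulAut S) = 1209600 := by
  obtain ⟨e⟩ := h
  have hfin : Finite Spor.J2 := Nat.finite_of_card_ne_zero (by rw [Cfsg.Agent.J2Sylow.SporSylow.card_J2]; norm_num)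
  have hc' : center Spor.J2 = ⊥ := by
    rw [eq_bot_iff]
    intro z hz
    have h1 : e.symm z ∈ center S := by
      rw [mem_center_iff] at hz ⊢
      intro g
      apply e.injective
      rw [map_mul, map_mul, MulEquiv.apply_symm_apply]
      exact hz (e g)
    rw [hc, mem_bot] at h1
    rw [mem_bot, ← e.apply_symm_apply z, h1, map_one]
  have h1 : Nat.card (MulAut S) = Nat.card (MulAut Spor.J2) := Nat.card_congr (MulAut.congr e).toEquiv
  have h2 : Nat.card (Out Spor.J2) * Nat.card (Inn Spor.J2) = Nat.card (MulAut Spor.J2) :=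
    (Subgroup.card_eq_card_quotient_mul_card_subgroup _).symm
  have h3 : Nat.card (Inn Spor.J2) = 604800 := by
    rw [← Cfsg.Agent.J2Sylow.SporSylow.card_J2]
    have hinj : Function.Injective (MulAut.conj : Spor.J2 →* MulAut Spor.J2) := by
      rw [← MonoidHom.ker_eq_bot_iff, eq_bot_iff, ← hc']
      intro g hg
      rw [mem_center_iff]
      intro k
      have h4 := MulEquiv.congr_fun (MonoidHom.mem_ker.1 hg) k
      rw [MulAut.conj_apply, MulAut.one_apply, mul_inv_eq_iff_eq_mul] at h4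
      exact h4.symm
    exact (Nat.card_congr (MonoidHom.ofInjective hinj).toEquiv).symm
  rw [h1, ← h2, h3, Cfsg.Agent.S2066.result]

/-- the search over `q` -/
def chkq (q : ℕ) : Bool :=
  Nat.ble q 1 || Nat.ble 2 (Nat.gcd q 604800) ||
    Nat.blt (2 * (Nat.gcd ((q - 1) * 1209600) (q ^ 6 - 1)) ^ 2) (q ^ 6) ||
    Nat.beq q 11 || Nat.beq q 17 || Nat.beq q 19 || Nat.beq q 23

theorem chkq_all : (List.range 925).all chkq = true := by decide +kernel

theorem q_cases {q : ℕ} (hq : 2 ≤ q) (hc : q.Coprime 604800) (h : Cand 1 604800 1209600 6 q) :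
    q = 11 ∨ q = 17 ∨ q = 19 ∨ q = 23 := by
  have h1 := h.pow_lt (by norm_num) hq (by norm_num)
  have h2 := h.gcd_le hq (by norm_num)
  have hlt : q < 925 := by
    by_contra hcon
    have h3 : 925 ^ 4 ≤ q ^ 4 := Nat.pow_le_pow_left (by omega) 4
    have h4 : 2 * q ^ 4 < 1209600 ^ 2 := h1
    have h5 : (2 : ℕ) * 925 ^ 4 ≤ 2 * q ^ 4 := by omega
    have h6 : (1209600 : ℕ) ^ 2 ≤ 2 * 925 ^ 4 := by norm_num
    omega
  have h3 := List.all_eq_true.1 chkq_all q (List.mem_range.2 hlt)
  unfold chkq at h3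
  simp only [Bool.or_eq_true, Nat.ble_eq, Nat.blt_eq, Nat.beq_eq] at h3
  have h4 : Nat.gcd q 604800 = 1 := hc
  omega

variable {p : ℕ} [Fact p.Prime] {K : Type w} [Field K] {V : Type u} [AddCommGroup V] [Module (ZMod p) V] [Finite V]
    [Module K V] {G L : Subgroup (V ≃ₗ[ZMod p] V)} {h : ℕ}

/-- **`J₂` does not occur in dimension 6** -/
theorem kill_six_J2 (H : QS p K V G L h) (hn : Module.finrank K V = 6)
    (hS : Spor.IsoJ2 (L ⧸ Subgroup.center L)) : False := by
  have hK := H.finiteK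
  have f5 : Fact (Nat.Prime 5) := ⟨by norm_num⟩
  have hcS : Nat.card (L ⧸ Subgroup.center L) = 604800 := card_J2 hS
  have hcand := H.cand (one_dvd h)
  have hcop := H.coprime
  rw [hcS, card_aut hS (H578.HT.center_quot H), hn] at hcand
  rw [hcS] at hcop
  have hq := q_cases H.two_le_card hcop hcand
  -- the centre
  have hz6 : ∀ z ∈ center L, z ^ 6 = 1 := by
    intro z hz
    have := center_pow H hz
    rwa [hn] at this
  have hz : ¬ 5 ∣ Nat.card (center L) := by
    intro h5
    obtain ⟨z, hz⟩ := exists_prime_orderOf_dvd_card' 5 h5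
    have h1 : (z : L) = 1 := by
      refine central_one hz6 z.2 ?_
      have h2 : z ^ 5 = 1 := by rw [← hz]; exact pow_orderOf_eq_one z
      exact congrArg Subtype.val h2
    have h2 : z = 1 := Subtype.ext h1
    rw [h2, orderOf_one] at hz
    norm_num at hz
  have hcL : Nat.card L = 604800 * Nat.card (center L) := by
    rw [← hcS]; exact Subgroup.card_eq_card_quotient_mul_card_subgroup _
  have hcz : Nat.card (center L) ≠ 0 := Nat.card_pos.ne'
  have hfac : (Nat.card L).factorization 5 = 2 := by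
    rw [hcL, Nat.factorization_mul (by norm_num) hcz, Finsupp.add_apply, Nat.factorization_eq_zero_of_not_dvd hz,
      show (604800 : ℕ) = 5 ^ 2 * 24192 by norm_num, Nat.factorization_mul (by norm_num) (by norm_num),
      Finsupp.add_apply, Nat.Prime.factorization_pow (by norm_num), Finsupp.single_eq_same,
      Nat.factorization_eq_zero_of_not_dvd (by norm_num)]
  -- the plane
  obtain ⟨x', y', d', u', s', h5'⟩ := exists_fiveN hS
  obtain ⟨x, y, d, u, h5⟩ := lift_five hz6 h5'.toFive
  have hpL : ¬ p ∣ Nat.card L := fun hd => H.cop (hd.trans (Subgroup.card_dvd_of_le H.le))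
  have hpV : ∀ v : V, p • v = 0 := by
    intro v
    have h1 : ((p : ZMod p)) • v = 0 := by rw [ZMod.natCast_self, zero_smul]
    rwa [Nat.cast_smul_eq_nsmul] at h1
  have h5K : (5 : K) ≠ 0 := by
    intro h50
    obtain ⟨v, hv⟩ := H.exists_ne
    have h1 : 5 • v = 0 := by
      have h2 : ((5 : ℕ) : K) • v = 0 := by
        have : ((5 : ℕ) : K) = 0 := by exact_mod_cast h50
        rw [this, zero_smul]
      rwa [Nat.cast_smul_eq_nsmul] at h2
    have h2 : addOrderOf v ∣ Nat.gcd 5 p :=
      Nat.dvd_gcd (addOrderOf_dvd_of_nsmul_eq_zero h1) (addOrderOf_dvd_of_nsmul_eq_zero (hpV v))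
    have h3 : Nat.gcd 5 p = 1 := by
      refine (Nat.Prime.coprime_iff_not_dvd (by norm_num)).2 fun h4 => hpL ?_
      have h6 : p = 5 := ((Nat.prime_dvd_prime_iff_eq (by norm_num) Fact.out).1 h4).symm
      refine (dvd_of_eq h6).trans ?_
      rw [hcL]
      exact (by norm_num : 5 ∣ 604800).mul_right _
    rw [h3] at h2
    exact hv (AddMonoid.addOrderOf_eq_one_iff.1 (Nat.dvd_one.1 h2))
  -- fixed spaces
  have hd2 : ∀ g : L, orderOf g = 5 → Nat.card {v : V // (g : V ≃ₗ[ZMod p] V) v = v} ≤ Nat.card K ^ 2 := by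
    intro g hg
    have h1 : Nat.card {v : V // (g : V ≃ₗ[ZMod p] V) v = v} = Nat.card K ^ Module.finrank K (F1 (kap H) g) := by
      rw [← Module.natCard_eq_pow_finrank (K := K) (V := F1 (kap H) g)]
      rfl
    rw [h1]
    refine Nat.pow_le_pow_right (by have := H.two_le_card; omega) ?_
    obtain ⟨P, hP⟩ := h5.exists_sylow hfac
    have hgp : IsPGroup 5 (zpowers g) := IsPGroup.of_card (n := 1) (by rw [Nat.card_zpowers, hg, pow_one])
    obtain ⟨Q, hQ⟩ := hgp.exists_le_sylow
    obtain ⟨k, hk⟩ := MulAction.exists_smul_eq L Q P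
    have h2 : k * g * k⁻¹ ∈ h5.pl := by
      rw [← hP, ← hk]
      exact ⟨g, hQ (mem_zpowers g), rfl⟩
    have h3 : zpowers (k * g * k⁻¹) ≤ h5.pl := zpowers_le.2 h2
    have h4 : Nat.card (zpowers (k * g * k⁻¹)) = 5 := by
      rw [Nat.card_zpowers]
      have : orderOf (k * g * k⁻¹) = orderOf g := by
        have := orderOf_injective (MulAut.conj k).toMonoidHom (MulAut.conj k).injective g
        simpa using this
      rw [this, hg]
    obtain ⟨i, hi⟩ := h5.line_cases h3 h4
    have h6 : F1 (kap H) (k * g * k⁻¹) = F1 (kap H) (pt x y i) :=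
      F1_eq (by rw [← hi]; exact mem_zpowers _) (by rw [hi]; exact mem_zpowers _)
    rw [← finrank_conj (kap H) k g, h6]
    exact finrank_le_two (kap H) (kap_injective H) h5 hpV hpL h5K hn i
  have hna : ¬ 5 ^ 2 ∣ Nat.card V - 1 := by
    rw [H.card_V, hn]
    rcases hq with hq | hq | hq | hq <;> rw [hq] <;> norm_num
  have ha : 5 ^ 2 ∣ Nat.card L := by
    rw [hcL]
    exact (by norm_num : 5 ^ 2 ∣ 604800).mul_right _
  have hfinal := H578.HT.covL_card H (by norm_num : Nat.Prime 5) ha hna hz hd2 (card_five_le hS)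
  rw [hn] at hfinal
  rcases hq with hq | hq | hq | hq <;> rw [hq] at hfinal <;> norm_num at hfinal

end Cfsg.Agent.H199.HT
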