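import Cfsg.Agent.H199.HT.JTwo
import Cfsg.Agent.H337.HT.Cand
import Cfsg.Agent.OddOrderCharacters.WielandtElem

/-!
# S3540, K6d: the plane `E = 5²` of `J₂` acting on a space of dimension 6 (helper199)

* `kap`: the action of `L` by `K`-linear automorphisms; `kap_det`: determinant one;
* `lift_five`: the relations `Five` lift from `L / Z(L)` to `L`;
* `finrank_le_two`: elements of order 5 have fixed spaces of dimension at most 2 in dimension 6.
-/

set_option autoImplicit false
set_option linter.unusedSectionVars false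

universe u w

namespace Cfsg.Agent.H199.HT

open Cfsg.Agent.H828.HT Cfsg.Agent.H337.HT Subgroup

section basic

variable {p : ℕ} [Fact p.Prime] {K : Type w} [Field K] {V : Type u} [AddCommGroup V] [Module (ZMod p) V] [Finite V]
    [Module K V] {G L : Subgroup (V ≃ₗ[ZMod p] V)} {h : ℕ}

/-- the `K`-linear action of `L` -/
def kap (H : QS p K V G L h) : L →* (V ≃ₗ[K] V) where
  toFun l :=
    { toFun := fun v => (l : V ≃ₗ[ZMod p] V) v
      map_add' := fun v w => map_add _ v w
      map_smul' := fun c v => H.lin l l.2 c v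
      invFun := fun v => ((l : V ≃ₗ[ZMod p] V)⁻¹ : V ≃ₗ[ZMod p] V) v
      left_inv := fun v => by
        change ((l : V ≃ₗ[ZMod p] V)⁻¹ * l) v = v
        rw [inv_mul_cancel]; rfl
      right_inv := fun v => by
        change ((l : V ≃ₗ[ZMod p] V) * (l : V ≃ₗ[ZMod p] V)⁻¹) v = v
        rw [mul_inv_cancel]; rfl }
  map_one' := rfl
  map_mul' a b := rfl

@[simp] theorem kap_apply (H : QS p K V G L h) (l : L) (v : V) : kap H l v = (l : V ≃ₗ[ZMod p] V) v := rfl

theorem kap_injective (H : QS p K V G L h) : Function.Injective (kap H) := by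
  intro a b hab
  apply Subtype.ext
  apply LinearEquiv.ext
  intro v
  exact LinearEquiv.congr_fun hab v

theorem kap_det (H : QS p K V G L h) (l : L) : LinearEquiv.det (kap H l) = 1 := by
  have h1 : (LinearEquiv.det.comp (kap H)).ker = ⊤ := by
    rw [eq_top_iff, ← H.perf, commutator_def, Subgroup.commutator_le]
    intro a _ b _
    rw [MonoidHom.mem_ker, map_commutatorElement, commutatorElement_eq_one_iff_mul_comm]
    exact mul_comm _ _
  have h2 : l ∈ (LinearEquiv.det.comp (kap H)).ker := by rw [h1]; trivial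
  exact h2

/-- central elements are scalars `c` with `c ^ n = 1` -/
theorem center_scalar (H : QS p K V G L h) {z : L} (hz : z ∈ center L) :
    ∃ c : K, c ^ Module.finrank K V = 1 ∧ ∀ v, (z : V ≃ₗ[ZMod p] V) v = c • v := by
  obtain ⟨c, hc⟩ := H.endo ((z : V ≃ₗ[ZMod p] V) : V →ₗ[ZMod p] V) (by
    intro l hl v
    have h1 := Subgroup.mem_center_iff.1 hz ⟨l, hl⟩
    have h2 := congrArg (fun k : L => (k : V ≃ₗ[ZMod p] V) v) h1
    exact h2.symm)
  refine ⟨c, ?_, hc⟩
  have h1 := kap_det H z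
  have h2 : ((kap H z : V ≃ₗ[K] V) : V →ₗ[K] V) = c • LinearMap.id := by
    ext v
    exact hc v
  have h3 : LinearMap.det ((kap H z : V ≃ₗ[K] V) : V →ₗ[K] V) = 1 := by
    rw [← LinearEquiv.coe_det, h1, Units.val_one]
  rw [h2, LinearMap.det_smul, LinearMap.det_id, mul_one] at h3
  exact h3

theorem center_pow (H : QS p K V G L h) {z : L} (hz : z ∈ center L) : z ^ Module.finrank K V = 1 := by
  obtain ⟨c, hc, hzc⟩ := center_scalar H hz
  apply Subtype.ext
  apply LinearEquiv.ext
  intro v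
  have h1 : ∀ n : ℕ, ((z ^ n : L) : V ≃ₗ[ZMod p] V) v = c ^ n • v := by
    intro n
    induction n with
    | zero => simp
    | succ n ih =>
      rw [pow_succ' z n]
      change (z : V ≃ₗ[ZMod p] V) (((z ^ n : L) : V ≃ₗ[ZMod p] V) v) = _
      rw [ih, hzc, smul_smul, ← pow_succ']
  rw [h1, hc, one_smul]
  rfl

end basic

/-! ### Lifting -/

section lift

variable {L : Type*} [Group L]

theorem central_one (hz : ∀ z ∈ center L, z ^ 6 = 1) {z : L} (hzc : z ∈ center L) (h5 : z ^ 5 = 1) : z = 1 := by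
  have h6 := hz z hzc
  rw [pow_succ, h5, one_mul] at h6
  exact h6

/-- equality modulo the centre of elements of order dividing 5 -/
theorem eq_of_mk (hz : ∀ z ∈ center L, z ^ 6 = 1) {a b : L} (ha : a ^ 5 = 1) (hb : b ^ 5 = 1)
    (hab : (a : L ⧸ center L) = b) : a = b := by
  have h1 : a⁻¹ * b ∈ center L := QuotientGroup.eq.1 hab
  have h2 : b = a * (a⁻¹ * b) := by group
  have hc : Commute a (a⁻¹ * b) := (Subgroup.mem_center_iff.1 h1 a)
  have h3 : (a⁻¹ * b) ^ 5 = 1 := by
    have h4 : b ^ 5 = a ^ 5 * (a⁻¹ * b) ^ 5 := by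
      conv_lhs => rw [h2]
      rw [hc.mul_pow]
    rw [ha, hb, one_mul] at h4
    exact h4.symm
  have h4 := central_one hz h1 h3
  rw [h2, h4, mul_one]

theorem lift_five (hz : ∀ z ∈ center L, z ^ 6 = 1) {x y d u : L ⧸ center L} (h : Five x y d u) :
    ∃ x' y' d' u' : L, Five x' y' d' u' := by
  obtain ⟨x0, rfl⟩ := QuotientGroup.mk_surjective x
  obtain ⟨y0, rfl⟩ := QuotientGroup.mk_surjective y
  obtain ⟨d, rfl⟩ := QuotientGroup.mk_surjective d
  obtain ⟨u, rfl⟩ := QuotientGroup.mk_surjective u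
  have key : ∀ a : L, ((a : L ⧸ center L)) ^ 5 = 1 → (a ^ 6) ^ 5 = 1 ∧ ((a ^ 6 : L) : L ⧸ center L) = a := by
    intro a ha
    have h1 : a ^ 5 ∈ center L := by
      rw [← QuotientGroup.eq_one_iff, QuotientGroup.mk_pow]; exact ha
    refine ⟨?_, ?_⟩
    · rw [← pow_mul, mul_comm, pow_mul]
      exact hz _ h1
    · rw [QuotientGroup.mk_pow, pow_succ, ha, one_mul]
  obtain ⟨hx, hx'⟩ := key x0 h.x5
  obtain ⟨hy, hy'⟩ := key y0 h.y5
  set x := x0 ^ 6
  set y := y0 ^ 6
  rw [← hx', ← hy'] at h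
  have hc : ∀ (g a : L), a ^ 5 = 1 → (g * a * g⁻¹) ^ 5 = 1 := by
    intro g a ha
    rw [conj_pow, ha, mul_one, mul_inv_cancel]
  have hxy : x * y = y * x := by
    have h1 := eq_of_mk hz (hc x y hy) hy (by
      rw [QuotientGroup.mk_mul, QuotientGroup.mk_mul, QuotientGroup.mk_inv, h.xy, mul_inv_cancel_right])
    rw [← mul_inv_eq_iff_eq_mul]; exact h1
  have hp : ∀ i j : ℕ, (x ^ i * y ^ j) ^ 5 = 1 := by
    intro i j
    have hq : ∀ a : L, a ^ 5 = 1 → ∀ i : ℕ, (a ^ i) ^ 5 = 1 := fun a ha i => by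
      rw [← pow_mul, mul_comm, pow_mul, ha, one_pow]
    rw [((show Commute x y from hxy).pow_pow i j).mul_pow, hq x hx, hq y hy, mul_one]
  refine ⟨x, y, d, u, hx, hy, hxy, ?_, ?_, ?_, ?_, ?_, ?_⟩
  · intro h1
    apply h.x1
    rw [h1]; rfl
  · intro k hk h1
    apply h.yx k hk
    rw [h1]; rfl
  · exact eq_of_mk hz (hc d x hx) hy h.dx
  · exact eq_of_mk hz (hc d y hy) (hp 4 4) h.dy
  · have := hp 4 0
    rw [pow_zero, mul_one] at this
    exact eq_of_mk hz (hc u x hx) this h.ux
  · have := hp 0 4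
    rw [pow_zero, one_mul] at this
    exact eq_of_mk hz (hc u y hy) this h.uy

end lift

/-! ### Dimensions -/

section dim

variable {K : Type*} [Field K] [Finite K] {V : Type*} [AddCommGroup V] [Module K V] [Finite V] {L : Type*} [Group L] [Finite L]

/-- fixed space of `l` -/
def F1 (κ : L →* (V ≃ₗ[K] V)) (l : L) : Submodule K V where
  carrier := {v | κ l v = v}
  zero_mem' := map_zero _
  add_mem' := by
    intro a b ha hb
    change κ l (a + b) = a + b
    rw [map_add]
    exact congrArg₂ (· + ·) ha hb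
  smul_mem' := by
    intro c v hv
    change κ l (c • v) = c • v
    rw [map_smul]
    exact congrArg (c • ·) hv

theorem mem_F1 {κ : L →* (V ≃ₗ[K] V)} {l : L} {v : V} : v ∈ F1 κ l ↔ κ l v = v := Iff.rfl

theorem kmul {κ : L →* (V ≃ₗ[K] V)} (a b : L) (v : V) : κ (a * b) v = κ a (κ b v) := by
  rw [map_mul]; rfl

theorem kinv {κ : L →* (V ≃ₗ[K] V)} (a : L) (v : V) : κ a (κ a⁻¹ v) = v := by
  rw [← kmul, mul_inv_cancel, map_one]; rfl

theorem kinv' {κ : L →* (V ≃ₗ[K] V)} (a : L) (v : V) : κ a⁻¹ (κ a v) = v := by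
  rw [← kmul, inv_mul_cancel, map_one]; rfl

theorem fix_pow {κ : L →* (V ≃ₗ[K] V)} {a : L} {v : V} (h : κ a v = v) (n : ℕ) : κ (a ^ n) v = v := by
  induction n with
  | zero => rw [pow_zero, map_one]; rfl
  | succ n ih => rw [pow_succ, kmul, h, ih]

theorem fix_zpow {κ : L →* (V ≃ₗ[K] V)} {a b : L} {v : V} (h : κ a v = v) (hb : b ∈ zpowers a) : κ b v = v := by
  have hfin : Finite L := inferInstance
  rw [← mem_powers_iff_mem_zpowers] at hb
  obtain ⟨n, rfl⟩ := hb
  exact fix_pow h n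

/-- conjugate elements -/
theorem finrank_conj (κ : L →* (V ≃ₗ[K] V)) (g a : L) :
    Module.finrank K (F1 κ (g * a * g⁻¹)) = Module.finrank K (F1 κ a) := by
  have h1 : (F1 κ a).map (κ g : V →ₗ[K] V) = F1 κ (g * a * g⁻¹) := by
    ext v
    constructor
    · rintro ⟨w, hw, rfl⟩
      have hw' : κ a w = w := hw
      change κ (g * a * g⁻¹) (κ g w) = κ g w
      rw [kmul, kmul, kinv', hw']
    · intro hv
      have hv' : κ (g * a * g⁻¹) v = v := hv
      refine ⟨κ g⁻¹ v, ?_, kinv g v⟩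
      change κ a (κ g⁻¹ v) = κ g⁻¹ v
      rw [kmul, kmul] at hv'
      rw [← kinv' (κ := κ) g (κ a (κ g⁻¹ v)), hv']
  rw [← h1]
  exact (LinearEquiv.finrank_map_eq (κ g) (F1 κ a))

/-- generators of the same cyclic group -/
theorem F1_eq {κ : L →* (V ≃ₗ[K] V)} {a b : L} (h1 : a ∈ zpowers b) (h2 : b ∈ zpowers a) : F1 κ a = F1 κ b := by
  ext v
  exact ⟨fun h => fix_zpow h h2, fun h => fix_zpow h h1⟩

variable {x y d u : L}

/-- the six fixed spaces -/
theorem finrank_orbits (κ : L →* (V ≃ₗ[K] V)) (h : Five x y d u) :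
    Module.finrank K (F1 κ (pt x y 0)) = Module.finrank K (F1 κ (pt x y 5)) ∧
    Module.finrank K (F1 κ (pt x y 1)) = Module.finrank K (F1 κ (pt x y 5)) ∧
    Module.finrank K (F1 κ (pt x y 3)) = Module.finrank K (F1 κ (pt x y 2)) ∧
    Module.finrank K (F1 κ (pt x y 4)) = Module.finrank K (F1 κ (pt x y 2)) := by
  have e0 : pt x y 0 = x := by simp [pt]
  have e1 : pt x y 1 = x * y := by simp [pt]
  have e2 : pt x y 2 = x * y ^ 2 := by simp [pt]
  have e3 : pt x y 3 = x * y ^ 3 := by simp [pt]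
  have e4 : pt x y 4 = x * y ^ 4 := by simp [pt]
  have e5 : pt x y 5 = y := by simp [pt]
  -- conjugation by `d`
  have hd : ∀ i j : ℕ, d * (x ^ i * y ^ j) * d⁻¹ = x ^ (4 * j) * y ^ (i + 4 * j) := by
    intro i j
    have h1 : d * (x ^ i * y ^ j) * d⁻¹ = (d * x * d⁻¹) ^ i * (d * y * d⁻¹) ^ j := by
      rw [conj_pow, conj_pow]; group
    rw [h1, h.dx, h.dy, (h.comm.pow_pow 4 4).mul_pow, ← pow_mul, ← pow_mul, pow_add]
    have hc : Commute (y ^ i) (x ^ (4 * j)) := (h.comm.pow_pow _ _).symm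
    rw [← mul_assoc, hc.eq, mul_assoc]
  -- scalar multiples generate the same group
  have hg : ∀ i j k i' j' m : ℕ, (k * i) % 5 = i' % 5 → (k * j) % 5 = j' % 5 → (m * i') % 5 = i % 5 →
      (m * j') % 5 = j % 5 → F1 κ (x ^ i * y ^ j) = F1 κ (x ^ i' * y ^ j') := by
    intro i j k i' j' m h1 h2 h3 h4
    have e : ∀ i j k i' j' : ℕ, (k * i) % 5 = i' % 5 → (k * j) % 5 = j' % 5 →
        x ^ i' * y ^ j' ∈ zpowers (x ^ i * y ^ j) := by
      intro i j k i' j' h1 h2
      have : x ^ i' * y ^ j' = (x ^ i * y ^ j) ^ k := by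
        rw [(h.comm.pow_pow i j).mul_pow, ← pow_mul, ← pow_mul, h.pow_mod (i * k), h.pow_mod' (j * k),
          mul_comm i k, mul_comm j k, h1, h2, ← h.pow_mod, ← h.pow_mod']
      rw [this]
      exact npow_mem_zpowers _ _
    exact F1_eq (e i' j' m i j h3 h4) (e i j k i' j' h1 h2)
  refine ⟨?_, ?_, ?_, ?_⟩
  · rw [e0, e5, ← h.dx, finrank_conj]
  · -- `d y d⁻¹ = x⁴ y⁴`
    rw [e1, e5, ← finrank_conj κ d y, h.dy]
    have := hg 1 1 4 4 4 4 (by norm_num) (by norm_num) (by norm_num) (by norm_num)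
    rw [pow_one, pow_one] at this
    rw [this]
  · -- `d (x y²) d⁻¹ = x³ y⁴ ~ x y³`
    rw [e3, e2, ← finrank_conj κ d (x * y ^ 2)]
    have h1 := hd 1 2
    rw [pow_one] at h1
    rw [h1]
    have := hg 1 3 3 (4 * 2) (1 + 4 * 2) 2 (by norm_num) (by norm_num) (by norm_num) (by norm_num)
    rw [pow_one] at this
    rw [this]
  · -- `d (x y⁴) d⁻¹ = x y²`
    rw [e4, e2, ← finrank_conj κ d (x * y ^ 4)]
    have h1 := hd 1 4
    rw [pow_one] at h1
    rw [h1]
    have := hg 1 2 1 (4 * 4) (1 + 4 * 4) 1 (by norm_num) (by norm_num) (by norm_num) (by norm_num)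
    rw [pow_one] at this
    rw [this]

/-- an inverted element of order 5 has no fixed space of codimension one -/
theorem no_codim_one (κ : L →* (V ≃ₗ[K] V)) (h5 : (5 : K) ≠ 0) {g t u : L} (hgt : g * t = t * g) (ht : t ^ 5 = 1)
    (hug : u * g * u⁻¹ = g⁻¹) (hut : u * t * u⁻¹ = t⁻¹)
    (hc : Module.finrank K (F1 κ g) = Module.finrank K ↥(F1 κ g ⊓ F1 κ t) + 1) : False := by
  set C := F1 κ g with hC
  -- `(t - 1)` on `C`
  let f : C →ₗ[K] V := ((κ t : V →ₗ[K] V) - LinearMap.id).domRestrict C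
  have hf : ∀ c : C, f c = κ t c - c := fun c => rfl
  have hker : Module.finrank K (LinearMap.ker f) = Module.finrank K ↥(C ⊓ F1 κ t) := by
    have h1 : (LinearMap.ker f).map C.subtype = C ⊓ F1 κ t := by
      ext v
      constructor
      · rintro ⟨c, hc, rfl⟩
        have h2 : f c = 0 := hc
        rw [hf, sub_eq_zero] at h2
        exact ⟨c.2, h2⟩
      · rintro ⟨hv1, hv2⟩
        refine ⟨⟨v, hv1⟩, ?_, rfl⟩
        change f ⟨v, hv1⟩ = 0
        rw [hf, sub_eq_zero]
        exact hv2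
    rw [← h1]
    exact (Submodule.finrank_map_subtype_eq C _).symm
  have hrange : Module.finrank K (LinearMap.range f) = 1 := by
    have h1 := LinearMap.finrank_range_add_finrank_ker f
    rw [hker, hc] at h1
    omega
  -- a generator `w = (t - 1) b`
  obtain ⟨⟨w, hw⟩, hw0, hwR⟩ := finrank_eq_one_iff'.1 hrange
  have hw0' : w ≠ 0 := fun e => hw0 (Subtype.ext e)
  obtain ⟨b, hb⟩ := hw
  rw [hf] at hb
  have hbC : κ g b = b := b.2
  have hin : ∀ c : V, κ g c = c → ∃ a : K, κ t c - c = a • w := by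
    intro c hc
    obtain ⟨a, ha⟩ := hwR ⟨f ⟨c, hc⟩, ⟨_, rfl⟩⟩
    exact ⟨a, (congrArg Subtype.val ha).symm⟩
  -- `t w = λ w`
  have htC : ∀ c : V, κ g c = c → κ g (κ t c) = κ t c := by
    intro c hc
    rw [← kmul, hgt, kmul, hc]
  have hwC : κ g w = w := by
    rw [← hb, map_sub, htC _ hbC, hbC]
  obtain ⟨l, hl⟩ := hin w hwC
  have hl' : κ t w = (l + 1) • w := by
    rw [add_smul, one_smul, ← hl]; abel
  -- `u` preserves `C`
  have huC : ∀ c : V, κ g c = c → κ g (κ u c) = κ u c := by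
    intro c hc
    have h1 : u * g = g⁻¹ * u := by rw [← hug]; group
    have h2 : κ u c = κ g⁻¹ (κ u c) := by
      conv_lhs => rw [← hc]
      rw [← kmul, h1, kmul]
    conv_lhs => rw [h2]
    rw [kinv]
  -- `u w ∈ K w`
  have htu : u * t = t⁻¹ * u := by rw [← hut]; group
  obtain ⟨m, hm⟩ : ∃ m : K, κ u w = m • w := by
    have h1 : κ u w = κ t (- κ t⁻¹ (κ u b)) - (- κ t⁻¹ (κ u b)) := by
      rw [← hb, map_sub, ← kmul, htu, kmul, map_neg, kinv]
      abel
    have h2 : κ g (- κ t⁻¹ (κ u b)) = - κ t⁻¹ (κ u b) := by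
      have h3 : g * t⁻¹ = t⁻¹ * g := by
        rw [eq_inv_mul_iff_mul_eq, ← mul_assoc, ← hgt, mul_assoc, mul_inv_cancel, mul_one]
      rw [map_neg, ← kmul, h3, kmul, huC _ hbC]
    obtain ⟨a, ha⟩ := hin _ h2
    exact ⟨a, by rw [h1, ha]⟩
  have hm0 : m ≠ 0 := by
    rintro rfl
    rw [zero_smul] at hm
    exact hw0' ((κ u).map_eq_zero_iff.1 hm)
  -- `λ² = 1`
  have h6 : (l + 1) * (l + 1) = 1 := by
    have h7 : κ t (κ u (κ t w)) = κ u w := by
      rw [← kmul, ← kmul, mul_assoc, htu, ← mul_assoc, mul_inv_cancel, one_mul]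
    rw [hl', map_smul, hm, map_smul, map_smul, hl', smul_smul, smul_smul] at h7
    have h8 : ((l + 1) * m * (l + 1) - m) • w = 0 := by rw [sub_smul, h7, sub_self]
    rcases smul_eq_zero.1 h8 with h9 | h9
    · have h10 : m * ((l + 1) * (l + 1) - 1) = 0 := by linear_combination h9
      rcases mul_eq_zero.1 h10 with h11 | h11
      · exact absurd h11 hm0
      · exact sub_eq_zero.1 h11
    · exact absurd h9 hw0'
  have hpow : ∀ n : ℕ, κ (t ^ n) w = (l + 1) ^ n • w := by
    intro n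
    induction n with
    | zero => rw [pow_zero, map_one, pow_zero, one_smul]; rfl
    | succ n ih => rw [pow_succ', kmul, ih, map_smul, hl', smul_smul, ← pow_succ]
  have h7 : (l + 1) ^ 5 = 1 := by
    have h8 := hpow 5
    rw [ht, map_one] at h8
    have h9 : ((l + 1) ^ 5 - 1) • w = 0 := by
      rw [sub_smul, ← h8, one_smul]
      exact sub_self w
    rcases smul_eq_zero.1 h9 with h10 | h10
    · exact sub_eq_zero.1 h10
    · exact absurd h10 hw0'
  have h8 : l + 1 = 1 := by
    have h9 : (l + 1) ^ 5 = ((l + 1) * (l + 1)) * ((l + 1) * (l + 1)) * (l + 1) := by ring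
    rw [h9, h6, one_mul, one_mul] at h7
    exact h7
  -- `t w = w`, `t ^ n b = b + n w`
  have htw : κ t w = w := by rw [hl', h8, one_smul]
  have htb : ∀ n : ℕ, κ (t ^ n) (b : V) = b + (n : K) • w := by
    intro n
    induction n with
    | zero => rw [pow_zero, map_one, Nat.cast_zero, zero_smul, add_zero]; rfl
    | succ n ih =>
      have h9 : κ t (b : V) = b + w := by rw [← hb]; abel
      rw [pow_succ', kmul, ih, map_add, map_smul, htw, h9, Nat.cast_succ, add_smul, one_smul]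
      abel
  have h9 := htb 5
  rw [ht, map_one] at h9
  have h10 : ((5 : ℕ) : K) • w = 0 := by
    have h11 : (b : V) = b + ((5 : ℕ) : K) • w := h9
    exact (left_eq_add.1 h11)
  rcases smul_eq_zero.1 h10 with h11 | h11
  · exact h5 (by exact_mod_cast h11)
  · exact hw0' h11

/-! ### The fixed point formula -/

/-- the six lines as functions of the coordinates: `x ^ i y ^ j` lies in line `k` -/
def onLine (i j : ℕ) (k : Fin 6) : Bool :=
  if (k : ℕ) = 5 then decide (i % 5 = 0) else decide ((j + 4 * (i * k)) % 5 = 0)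

theorem mem_line (h : Five x y d u) (i j : ℕ) (k : Fin 6) :
    x ^ i * y ^ j ∈ zpowers (pt x y k) ↔ onLine i j k = true := by
  have hfin : Finite L := inferInstance
  rw [← mem_powers_iff_mem_zpowers]
  unfold onLine
  by_cases hk : (k : ℕ) = 5
  · rw [if_pos hk, decide_eq_true_iff]
    have hpt : pt x y k = y := by rw [pt, if_pos hk]
    rw [hpt]
    constructor
    · rintro ⟨n, hn⟩
      have hn' : x ^ 0 * y ^ n = x ^ i * y ^ j := by rw [pow_zero, one_mul]; exact hn
      have := (h.inj' hn').1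
      omega
    · intro hi
      refine ⟨j, ?_⟩
      change y ^ j = x ^ i * y ^ j
      rw [h.pow_mod i, hi, pow_zero, one_mul]
  · rw [if_neg hk, decide_eq_true_iff]
    have hpt : pt x y k = x * y ^ (k : ℕ) := by rw [pt, if_neg hk]
    have hp : ∀ n : ℕ, (x * y ^ (k : ℕ)) ^ n = x ^ n * y ^ ((k : ℕ) * n) := by
      intro n
      rw [(h.comm.pow_right k).mul_pow, ← pow_mul]
    rw [hpt]
    constructor
    · rintro ⟨n, hn⟩
      have hn' : x ^ n * y ^ ((k : ℕ) * n) = x ^ i * y ^ j := by rw [← hp]; exact hn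
      obtain ⟨h1, h2⟩ := h.inj' hn'
      have h3 : (j + 4 * (i * k)) % 5 = ((k * n) + 4 * (n * k)) % 5 := by
        rw [Nat.add_mod, ← h2, Nat.mul_mod 4 (i * k), Nat.mul_mod i k, ← h1, ← Nat.mul_mod n k, ← Nat.mul_mod 4,
          ← Nat.add_mod]
      rw [h3]
      have : (k : ℕ) * n + 4 * (n * k) = 5 * (n * k) := by ring
      rw [this]
      exact Nat.mul_mod_right 5 _
    · intro hj
      refine ⟨i, ?_⟩
      change (x * y ^ (k : ℕ)) ^ i = x ^ i * y ^ j
      rw [hp, h.pow_mod' j, h.pow_mod' (k * i)]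
      congr 2
      have h2 : (k : ℕ) * i = i * k := mul_comm _ _
      rw [h2]
      omega

theorem card_onLine (i j : ℕ) (h0 : ¬ (i % 5 = 0 ∧ j % 5 = 0)) : Nat.card {k : Fin 6 // onLine i j k = true} = 1 := by
  have hmod : ∀ k, onLine i j k = onLine (i % 5) (j % 5) k := by
    intro k
    unfold onLine
    by_cases hk : (k : ℕ) = 5
    · rw [if_pos hk, if_pos hk, Nat.mod_mod]
    · rw [if_neg hk, if_neg hk]
      have h1 : (j + 4 * (i * k)) % 5 = (j % 5 + 4 * (i % 5 * k)) % 5 :=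
        Nat.ModEq.add (Nat.mod_modEq j 5).symm (((Nat.mod_modEq i 5).symm.mul_right k).mul_left 4)
      rw [h1]
  have hd : ∀ a b : Fin 5, ¬ ((a : ℕ) = 0 ∧ (b : ℕ) = 0) →
      Fintype.card {k : Fin 6 // onLine a b k = true} = 1 := by decide
  have h1 := hd ⟨i % 5, Nat.mod_lt _ (by norm_num)⟩ ⟨j % 5, Nat.mod_lt _ (by norm_num)⟩ h0
  rw [← Nat.card_eq_fintype_card] at h1
  rw [← h1]
  exact Nat.card_congr (Equiv.subtypeEquivRight fun k => by rw [hmod k])

/-- **the fixed point formula** in terms of dimensions -/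
theorem dim_formula {p : ℕ} [Fact p.Prime] (κ : L →* (V ≃ₗ[K] V)) (h : Five x y d u) (hp : ∀ v : V, p • v = 0)
    (hpL : ¬ p ∣ Nat.card L) :
    ∑ i : Fin 6, Module.finrank K (F1 κ (pt x y i)) = 5 * Module.finrank K ↥(F1 κ x ⊓ F1 κ y) + Module.finrank K V := by
  classical
  let ρ : L →* AddMonoid.End V :=
    { toFun := fun l => ((κ l : V →ₗ[K] V) : V →+ V)
      map_one' := by ext v; rw [map_one]; rfl
      map_mul' := fun a b => by ext v; rw [map_mul]; rfl }
  have hρ : ∀ l v, ρ l v = κ l v := fun l v => rfl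
  have key := OddOrderCharacters.WielandtElem.prod_eq_prod (r := p) hp ρ hpL (I := Fin 6) (J := Option (Fin 5))
    (fun i => zpowers (pt x y i)) (fun j => match j with | none => h.pl | some _ => ⊥) ?_
  · have hq : 1 < Nat.card K := Finite.one_lt_card
    -- the cardinals
    have e1 : ∀ i : Fin 6, Nat.card {v : V // ∀ l ∈ zpowers (pt x y i), ρ l v = v} =
        Nat.card K ^ Module.finrank K (F1 κ (pt x y i)) := by
      intro i
      rw [← Module.natCard_eq_pow_finrank (K := K) (V := F1 κ (pt x y i))]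
      refine Nat.card_congr (Equiv.subtypeEquivRight fun v => ?_)
      constructor
      · intro hv
        exact hv _ (mem_zpowers _)
      · intro hv l hl
        exact fix_zpow hv hl
    have e2 : Nat.card {v : V // ∀ l ∈ h.pl, ρ l v = v} = Nat.card K ^ Module.finrank K ↥(F1 κ x ⊓ F1 κ y) := by
      rw [← Module.natCard_eq_pow_finrank (K := K) (V := ↥(F1 κ x ⊓ F1 κ y))]
      refine Nat.card_congr (Equiv.subtypeEquivRight fun v => ?_)
      constructor
      · intro hv
        exact ⟨hv x ⟨1, 0, by simp⟩, hv y ⟨0, 1, by simp⟩⟩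
      · rintro ⟨h1, h2⟩ l ⟨i, j, rfl⟩
        rw [hρ, kmul, fix_pow h2, fix_pow h1]
    have e3 : Nat.card {v : V // ∀ l ∈ (⊥ : Subgroup L), ρ l v = v} = Nat.card K ^ Module.finrank K V := by
      rw [← Module.natCard_eq_pow_finrank (K := K) (V := V)]
      refine Nat.card_congr (Equiv.subtypeUnivEquiv fun v => ?_)
      intro l hl
      rw [Subgroup.mem_bot.1 hl, map_one]
      rfl
    have e4 : ∀ i : Fin 6, Nat.card (zpowers (pt x y i)) = 5 := by
      intro i
      have f5 : Fact (Nat.Prime 5) := ⟨by norm_num⟩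
      rw [Nat.card_zpowers]
      apply orderOf_eq_prime (h.pow_five (h.pt_mem i))
      intro h2
      by_cases h3 : (i : ℕ) = 5
      · rw [pt, if_pos h3] at h2
        exact h.y1 h2
      · rw [pt, if_neg h3] at h2
        have h4 := (h.inj (i := 1) (j := i) (by rw [pow_one]; exact h2)).1
        omega
    rw [Fintype.prod_option] at key
    simp only [e1, e2, e3, e4, h.card_pl, Subgroup.card_bot, pow_one, ← pow_mul] at key
    rw [Finset.prod_const, Finset.card_univ, Fintype.card_fin, ← pow_mul, ← pow_add, Finset.prod_pow_eq_pow_sum] at key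
    have h3 := Nat.pow_right_injective hq key
    have h4 : ∑ i : Fin 6, Module.finrank K (F1 κ (pt x y i)) * 5 =
        (∑ i : Fin 6, Module.finrank K (F1 κ (pt x y i))) * 5 := (Finset.sum_mul _ _ _).symm
    have h5 : (∑ i : Fin 6, Module.finrank K (F1 κ (pt x y i))) * 5 =
        Module.finrank K ↥(F1 κ x ⊓ F1 κ y) * 25 + Module.finrank K V * 5 := by rw [← h4]; exact h3
    omega
  · intro f
    by_cases hf : f ∈ h.pl
    · obtain ⟨i, j, hf'⟩ := hf
      by_cases h0 : i % 5 = 0 ∧ j % 5 = 0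
      · have hf1 : f = 1 := by rw [hf', h.pow_mod, h.pow_mod' j, h0.1, h0.2]; simp
        rw [Nat.card_congr (Equiv.subtypeUnivEquiv fun i => by rw [hf1]; exact one_mem _),
          Nat.card_congr (Equiv.subtypeUnivEquiv fun j => by rw [hf1]; exact one_mem _)]
        simp
      · have hf1 : f ≠ 1 := by
          intro e
          rw [hf'] at e
          exact h0 (h.inj e)
        have e1 : Nat.card {k : Fin 6 // f ∈ zpowers (pt x y k)} = 1 := by
          rw [← card_onLine i j h0]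
          exact Nat.card_congr (Equiv.subtypeEquivRight fun k => by rw [hf']; exact mem_line h i j k)
        rw [e1]
        symm
        rw [Nat.card_eq_one_iff_unique]
        refine ⟨⟨?_⟩, ⟨⟨none, ⟨i, j, hf'⟩⟩⟩⟩
        rintro ⟨a, ha⟩ ⟨b, hb⟩
        cases a with
        | none =>
          cases b with
          | none => rfl
          | some i' => exact absurd hb hf1
        | some i' => exact absurd ha hf1
    · have e1 : IsEmpty {k : Fin 6 // f ∈ zpowers (pt x y k)} := ⟨fun k => hf (by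
        have h1 : zpowers (pt x y k.1) ≤ h.pl := zpowers_le.2 (h.pt_mem _)
        exact h1 k.2)⟩
      have e2 : IsEmpty {j : Option (Fin 5) // f ∈ (match j with | none => h.pl | some _ => (⊥ : Subgroup L))} := by
        refine ⟨fun j => ?_⟩
        obtain ⟨j, hj⟩ := j
        cases j with
        | none => exact hf hj
        | some i =>
          apply hf
          have hj' : f = 1 := hj
          rw [hj']
          exact one_mem _
      rw [Nat.card_of_isEmpty, Nat.card_of_isEmpty]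

/-- **dimension 6: every element of order 5 of the plane has fixed space of dimension at most 2** -/
theorem finrank_le_two {p : ℕ} [Fact p.Prime] (κ : L →* (V ≃ₗ[K] V)) (hκ : Function.Injective κ) (h : Five x y d u)
    (hp : ∀ v : V, p • v = 0) (hpL : ¬ p ∣ Nat.card L) (h5 : (5 : K) ≠ 0) (h6 : Module.finrank K V = 6) (i : Fin 6) :
    Module.finrank K (F1 κ (pt x y i)) ≤ 2 := by
  have hsum := dim_formula κ h hp hpL
  obtain ⟨h0, h1, h3, h4⟩ := finrank_orbits κ h
  simp only [Fin.sum_univ_six] at hsum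
  rw [h0, h1, h3, h4, h6] at hsum
  set a := Module.finrank K (F1 κ (pt x y 5)) with ha
  set b := Module.finrank K (F1 κ (pt x y 2)) with hb
  set c := Module.finrank K ↥(F1 κ x ⊓ F1 κ y) with hc
  have e0 : pt x y 0 = x := by simp [pt]
  have e2 : pt x y 2 = x * y ^ 2 := by simp [pt]
  have e5 : pt x y 5 = y := by simp [pt]
  -- `C_V(E)` inside the fixed spaces
  have hinf : F1 κ (x * y ^ 2) ⊓ F1 κ y = F1 κ x ⊓ F1 κ y := by
    ext v
    constructor
    · rintro ⟨h5, h6⟩
      refine ⟨?_, h6⟩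
      have h6' : κ y v = v := h6
      have h5' : κ (x * y ^ 2) v = v := h5
      rw [kmul, fix_pow h6'] at h5'
      exact h5'
    · rintro ⟨h5, h6⟩
      refine ⟨?_, h6⟩
      have h6' : κ y v = v := h6
      have h5' : κ x v = v := h5
      change κ (x * y ^ 2) v = v
      rw [kmul, fix_pow h6', h5']
  have hca : c ≤ a := by
    rw [hc, ha, e5]
    exact Submodule.finrank_mono inf_le_right
  have hcb : c ≤ b := by
    rw [hc, hb, e2, ← hinf]
    exact Submodule.finrank_mono inf_le_left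
  have ha6 : a ≤ 6 := by rw [← h6]; exact Submodule.finrank_le _
  have hb6 : b ≤ 6 := by rw [← h6]; exact Submodule.finrank_le _
  have hc6 : c ≠ 6 := by
    intro e
    have h7 : F1 κ x ⊓ F1 κ y = ⊤ := Submodule.eq_top_of_finrank_eq (by rw [← hc, e, h6])
    apply h.x1
    apply hκ
    rw [map_one]
    apply LinearEquiv.ext
    intro v
    have h8 : v ∈ F1 κ x ⊓ F1 κ y := by rw [h7]; trivial
    exact h8.1
  -- `u` inverts the plane
  have hux : u * x * u⁻¹ = x⁻¹ := by
    rw [h.ux, eq_inv_iff_mul_eq_one, ← pow_succ, h.x5]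
  have huy : u * y * u⁻¹ = y⁻¹ := by
    rw [h.uy, eq_inv_iff_mul_eq_one, ← pow_succ, h.y5]
  have huxy : u * (x * y ^ 2) * u⁻¹ = (x * y ^ 2)⁻¹ := by
    have h7 : u * (x * y ^ 2) * u⁻¹ = (u * x * u⁻¹) * (u * y * u⁻¹) ^ 2 := by
      rw [conj_pow]; group
    rw [h7, hux, huy, mul_inv_rev, inv_pow]
    exact ((h.comm.pow_right 2).inv_inv).eq
  -- no codimension one
  have hac : a ≠ c + 1 := by
    intro e
    refine no_codim_one κ h5 (g := y) (t := x) (u := u) h.xy.symm h.x5 huy hux ?_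
    rw [← e5, ← ha, e, hc, inf_comm, e5]
  have hbc : b ≠ c + 1 := by
    intro e
    refine no_codim_one κ h5 (g := x * y ^ 2) (t := y) (u := u) ?_ h.y5 huxy huy ?_
    · exact (h.comm.mul_left ((Commute.refl y).pow_left 2)).eq
    · rw [← e2, ← hb, e, hc, e2, hinf]
  have hab : a ≤ 2 ∧ b ≤ 2 := by omega
  have hi : i = 0 ∨ i = 1 ∨ i = 2 ∨ i = 3 ∨ i = 4 ∨ i = 5 := by omega
  rcases hi with rfl | rfl | rfl | rfl | rfl | rfl
  · rw [h0]; exact hab.1
  · rw [h1]; exact hab.1
  · exact hab.2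
  · rw [h3]; exact hab.2
  · rw [h4]; exact hab.2
  · exact hab.1

end dim

end Cfsg.Agent.H199.HT
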