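import Cfsg.Agent.H578.HT.Cov
import Cfsg.Agent.PermutationGroups.AutSL25

/-!
# S3540, section 4, task X2: elements of order `5` and automorphisms of `SL(2,5)`
-/

set_option autoImplicit false

namespace Cfsg.Agent.H199.HT

open Cfsg.Agent.PermutationGroups.AutSL25

abbrev SL5 := Matrix.SpecialLinearGroup (Fin 2) (ZMod 5)

theorem sl_card5 : Fintype.card {g : SL5 // g * g * g * g * g = 1} = 25 := by decide +kernel

theorem sl_pow5 : ∀ g : SL5, g * g * g * g * g = -1 → (-g) * (-g) * (-g) * (-g) * (-g) = 1 := by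
  decide +kernel

theorem sl_cen5 : ∀ g : SL5, (g * S = S * g ∧ g * T = T * g) → g * g * g * g * g = 1 → g = 1 := by
  decide +kernel

theorem pow5 {A : Type*} [Monoid A] (g : A) : g ^ 5 = g * g * g * g * g := by
  simp [pow_succ]

/-- an automorphism of order `5` of `SL(2,5)` is conjugation by an element of order `5` -/
theorem sl_inner (α : MulAut SL5) (hα : α ^ 5 = 1) : ∃ x : SL5, x ^ 5 = 1 ∧ α = MulAut.conj x := by
  have : Finite (MulAut SL5) := Finite.of_injective (fun g : MulAut SL5 => (g : SL5 → SL5)) DFunLike.coe_injective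
  have := H578.HT.conj_range_normal SL5
  have hker : (MulAut.conj : SL5 →* MulAut SL5).ker = Subgroup.center SL5 := by
    ext x
    rw [MonoidHom.mem_ker, Subgroup.mem_center_iff]
    constructor
    · intro hx y
      have h1 := DFunLike.congr_fun hx y
      rw [MulAut.conj_apply] at h1
      have h2 : x * y * x⁻¹ = y := h1
      rw [mul_inv_eq_iff_eq_mul] at h2
      exact h2.symm
    · intro hx
      ext1 y
      rw [MulAut.conj_apply, ← hx y, mul_inv_cancel_right]
      rfl
  have hcard : Nat.card ((MulAut.conj : SL5 →* MulAut SL5).range) = 60 := by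
    have h1 := Subgroup.card_mul_index ((MulAut.conj : SL5 →* MulAut SL5).ker)
    rw [Subgroup.index_ker, hker, card_center, natCard] at h1
    omega
  have hidx : ¬ 5 ∣ ((MulAut.conj : SL5 →* MulAut SL5).range).index := by
    have h1 := Subgroup.card_mul_index ((MulAut.conj : SL5 →* MulAut SL5).range)
    rw [hcard] at h1
    have h2 := card_mulAut_le
    have h3 : 0 < Nat.card (MulAut SL5) := Nat.card_pos
    change Nat.card (MulAut SL5) ≤ 120 at h2
    omega
  obtain ⟨x, hx⟩ := H578.HT.mem_of_not_dvd_index _ (by norm_num) hidx hα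
  have h1 : x ^ 5 ∈ Subgroup.center SL5 := by
    rw [← hker, MonoidHom.mem_ker, map_pow, hx, hα]
  have h2 : x ^ 5 = 1 ∨ x ^ 5 = -1 := by
    have h3 := Subgroup.mem_center_iff.1 h1
    exact mem_center_iff _ ⟨(h3 S).symm, (h3 T).symm⟩
  rcases h2 with h2 | h2
  · exact ⟨x, h2, hx.symm⟩
  · refine ⟨-x, ?_, ?_⟩
    · rw [pow5] at h2 ⊢
      exact sl_pow5 x h2
    · rw [← hx]
      ext1 y
      rw [MulAut.conj_apply, MulAut.conj_apply]
      have h3 : (-x)⁻¹ = -x⁻¹ := by
        rw [inv_eq_iff_mul_eq_one, neg_mul_neg, mul_inv_cancel]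
      rw [h3, neg_mul, neg_mul_neg]

/-- the same for a group isomorphic to `SL(2,5)` -/
theorem inner5 {A : Type*} [Group A] (e : A ≃* SL5) (α : MulAut A) (hα : α ^ 5 = 1) :
    ∃ x : A, x ^ 5 = 1 ∧ ∀ a, α a = x * a * x⁻¹ := by
  obtain ⟨x, hx, hx'⟩ := sl_inner (MulAut.congr e α) (by rw [← map_pow, hα, map_one])
  refine ⟨e.symm x, by rw [← map_pow, hx, map_one], fun a => ?_⟩
  apply e.injective
  have h1 := DFunLike.congr_fun hx' (e a)
  rw [MulAut.conj_apply] at h1
  rw [map_mul, map_mul, map_inv, MulEquiv.apply_symm_apply, ← h1]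
  change _ = e (α (e.symm (e a)))
  rw [MulEquiv.symm_apply_apply]

theorem card5 {A : Type*} [Group A] (e : A ≃* SL5) : Nat.card {a : A // a ^ 5 = 1} = 25 := by
  rw [← sl_card5, ← Nat.card_eq_fintype_card]
  refine Nat.card_congr (e.toEquiv.subtypeEquiv (fun a => ?_))
  change a ^ 5 = 1 ↔ e a * e a * e a * e a * e a = 1
  rw [← pow5, ← map_pow, MulEquiv.map_eq_one_iff]

/-- a central element of order dividing `5` is trivial -/
theorem cen5 {A : Type*} [Group A] (e : A ≃* SL5) {x : A} (hx : ∀ a : A, x * a = a * x) (hx5 : x ^ 5 = 1) :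
    x = 1 := by
  have h1 : ∀ y : SL5, e x * y = y * e x := by
    intro y
    rw [← e.apply_symm_apply y, ← map_mul, ← map_mul, hx]
  have h2 : e x = 1 := by
    refine sl_cen5 _ ⟨h1 S, h1 T⟩ ?_
    rw [← pow5, ← map_pow, hx5, map_one]
  exact (MulEquiv.map_eq_one_iff e).1 h2

theorem exists5 {A : Type*} [Group A] (e : A ≃* SL5) : ∃ x : A, x ^ 5 = 1 ∧ x ≠ 1 := by
  refine ⟨e.symm T, ?_, ?_⟩
  · rw [← map_pow, pow5, relT, map_one]
  · intro h
    exact T_ne ((MulEquiv.map_eq_one_iff e.symm).1 h)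

end Cfsg.Agent.H199.HT
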