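import Cfsg.Agent.H138.HT.TT
import Cfsg.Agent.H199.HT.TTEig
import Cfsg.Agent.H199.HT.SLInner

/-!
# S3540, section 4, task X2 (5180): `tt_cov`
-/

set_option autoImplicit false
set_option linter.unusedSectionVars false
set_option linter.unusedVariables false

universe u

namespace Cfsg.Agent.H199.HT

open Cfsg.Agent.H828.HT Cfsg.Agent.H138.HT Cfsg.Agent.Omega.NO1.Comp TensorProduct Module

section RankTwo

variable {p : ℕ} [Fact p.Prime] {V : Type u} [AddCommGroup V] [Module (ZMod p) V] [Finite V]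
  {G : Subgroup (V ≃ₗ[ZMod p] V)} {h : ℕ}

/-- an element of prime order `r` of `G` without fixed vector sums up to zero -/
theorem sp_zero' (H : Half G h) {r : ℕ} (hr : r.Prime) (hrh : ¬ r ∣ h) {x : V ≃ₗ[ZMod p] V} (hx : x ∈ G)
    (hxr : x ^ r = 1) (hx1 : x ≠ 1) (v : V) : H578.HT.sp x r v = 0 := by
  by_contra hc
  have : Fact r.Prime := ⟨hr⟩
  apply hrh
  refine dvd_h H (g := ⟨x, hx⟩) ?_ hc (H578.HT.sp_fixed hxr v)
  refine orderOf_eq_prime (Subtype.ext hxr) ?_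
  intro h1
  exact hx1 (congrArg Subtype.val h1)

theorem p_ne' (cop : ¬ p ∣ Nat.card G) {r : ℕ} (hr : r.Prime) {x : V ≃ₗ[ZMod p] V} (hx : x ∈ G)
    (hxr : x ^ r = 1) (hx1 : x ≠ 1) : r ≠ p := by
  rintro rfl
  apply cop
  have : orderOf (⟨x, hx⟩ : G) = r := by
    refine orderOf_eq_prime (Subtype.ext hxr) ?_
    intro h1
    exact hx1 (congrArg Subtype.val h1)
  have h2 : orderOf (⟨x, hx⟩ : G) ∣ Nat.card G := orderOf_dvd_natCard _
  rwa [this] at h2

/-- two commuting elements of order `r`, none a power of the other -/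
theorem rank_two'' (H : Half G h) (cop : ¬ p ∣ Nat.card G) (hne : ∃ v : V, v ≠ 0) {r : ℕ} (hr : r.Prime)
    {a b : V ≃ₗ[ZMod p] V} (ha : a ∈ G) (hb : b ∈ G)
    (hab : a * b = b * a) (har : a ^ r = 1) (hbr : b ^ r = 1) (ha1 : a ≠ 1)
    (hba : b ∉ Subgroup.zpowers a) : r ∣ h := by
  by_contra hrh
  obtain ⟨v, hv⟩ := hne
  apply hv
  have hcomm : Commute a b := hab
  -- the elements `a ^ i * b`
  have h1 : ∀ i, H578.HT.sp (a ^ i * b) r v = 0 := by
    intro i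
    refine sp_zero' H hr hrh (G.mul_mem (G.pow_mem ha i) hb) ?_ ?_ v
    · rw [(hcomm.pow_left i).mul_pow, ← pow_mul, mul_comm i, pow_mul, har, one_pow, hbr, mul_one]
    · intro hc
      apply hba
      have : b = (a ^ i)⁻¹ := (inv_eq_of_mul_eq_one_right hc).symm
      rw [this]
      exact Subgroup.inv_mem _ (Subgroup.pow_mem _ (Subgroup.mem_zpowers a) i)
  have h2 : ∑ i ∈ Finset.range r, H578.HT.sp (a ^ i * b) r v = 0 :=
    Finset.sum_eq_zero (fun i _ => h1 i)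
  unfold H578.HT.sp at h2
  rw [Finset.sum_comm] at h2
  have h3 : ∀ j ∈ Finset.range r, j ≠ 0 → ∑ i ∈ Finset.range r, ((a ^ i * b) ^ j) v = 0 := by
    intro j hj hj0
    have hjr : j < r := Finset.mem_range.1 hj
    have h4 : ∀ i, ((a ^ i * b) ^ j) v = ((a ^ j) ^ i) ((b ^ j) v) := by
      intro i
      rw [(hcomm.pow_left i).mul_pow, ← pow_mul, mul_comm i, pow_mul]; rfl
    rw [Finset.sum_congr rfl (fun i _ => h4 i)]
    refine sp_zero' H hr hrh (G.pow_mem ha j) ?_ ?_ _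
    · rw [← pow_mul, mul_comm, pow_mul, har, one_pow]
    · intro hc
      have h5 : orderOf a = r := by
        have : Fact r.Prime := ⟨hr⟩
        exact orderOf_eq_prime har ha1
      have h6 := orderOf_dvd_of_pow_eq_one hc
      rw [h5] at h6
      exact absurd (Nat.le_of_dvd (by omega) h6) (by omega)
  rw [Finset.sum_eq_single_of_mem 0 (Finset.mem_range.2 hr.pos) h3] at h2
  simp only [pow_zero] at h2
  rw [Finset.sum_const, Finset.card_range] at h2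
  refine H578.HT.cast_smul_eq_zero (p := p) ?_ h2
  intro hd
  exact p_ne' cop hr ha har ha1 ((Nat.prime_dvd_prime_iff_eq (Fact.out : p.Prime) hr).1 hd).symm

end RankTwo

variable {p : ℕ} [Fact p.Prime] {K : Type u} [Field K] {V : Type u} [AddCommGroup V] [Module (ZMod p) V]
  [Module K V] {W W' : Type u} [AddCommGroup W] [Module K W] [AddCommGroup W'] [Module K W']
  {G A B : Subgroup (V ≃ₗ[ZMod p] V)} {h : ℕ}

theorem tt_exists_ne [Finite V] (T : TT p K V W W' G A B h) : ∃ v : V, v ≠ 0 := by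
  have := T.D.neL
  have := T.D.neR
  obtain ⟨w, hw⟩ := exists_ne (0 : W)
  obtain ⟨w', hw'⟩ := exists_ne (0 : W')
  exact ⟨_, T.D.ne_zero hw hw'⟩

theorem tt_five_dvd [Finite V] (T : TT p K V W W' G A B h) (e : A ≃* SL5) (e' : B ≃* SL5) : 5 ∣ h := by
  obtain ⟨x, hx5, hx1⟩ := exists5 e
  obtain ⟨y, hy5, hy1⟩ := exists5 e'
  refine rank_two'' T.half T.cop (tt_exists_ne T) (r := 5) (by norm_num) (T.leA x.2) (T.leB y.2)
    (T.comm _ x.2 _ y.2) ?_ ?_ ?_ ?_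
  · rw [← Subgroup.coe_pow, hx5]; rfl
  · rw [← Subgroup.coe_pow, hy5]; rfl
  · intro hc
    exact hx1 (Subtype.ext hc)
  · intro hc
    apply hy1
    have hyA : (y : V ≃ₗ[ZMod p] V) ∈ A := (Subgroup.zpowers_le.2 x.2) hc
    exact cen5 e' (fun b => Subtype.ext (T.comm _ hyA _ b.2)) hy5

/-- **the normalized covering elements** -/
theorem tt_cover [Finite V] (T : TT p K V W W' G A B h) (e : A ≃* SL5) (e' : B ≃* SL5) {v : V} (hv : v ≠ 0) :
    ∃ (x : A) (y : B), x ^ 5 = 1 ∧ y ^ 5 = 1 ∧ ¬ (x = 1 ∧ y = 1) ∧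
      ∃ c : K, ((x : V ≃ₗ[ZMod p] V) * (y : V ≃ₗ[ZMod p] V)) v = c • v := by
  have h5 := tt_five_dvd T e e'
  rw [← T.half v hv] at h5
  have : Fact (Nat.Prime 5) := ⟨by norm_num⟩
  obtain ⟨g', hg'⟩ := exists_prime_orderOf_dvd_card' 5 h5
  obtain ⟨g, hgG, hg5, hgv, hg1⟩ : ∃ g : V ≃ₗ[ZMod p] V, g ∈ G ∧ g ^ 5 = 1 ∧ g v = v ∧ g ≠ 1 := by
    refine ⟨((g' : G) : V ≃ₗ[ZMod p] V), (g' : G).2, ?_, g'.2, ?_⟩
    · have h1 := pow_orderOf_eq_one g'
      rw [hg'] at h1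
      exact congrArg (fun t : MulAction.stabilizer G v => ((t : G) : V ≃ₗ[ZMod p] V)) h1
    · intro hc
      have h2 : g' = 1 := Subtype.ext (Subtype.ext hc)
      rw [h2, orderOf_one] at hg'
      norm_num at hg'
  -- `g` normalizes `A` and `B`
  have hnorm : (∀ a ∈ A, g * a * g⁻¹ ∈ A) ∧ (∀ b ∈ B, g * b * g⁻¹ ∈ B) := by
    rcases T.perm g hgG with h1 | ⟨h1, h2⟩
    · exact h1
    exfalso
    have h3 : ∀ a ∈ A, a ∈ B := by
      intro a ha
      have h4 := h1 _ (h2 _ (h1 _ (h2 _ (h1 a ha))))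
      have h6 : g * (g * (g * (g * (g * a * g⁻¹) * g⁻¹) * g⁻¹) * g⁻¹) * g⁻¹ = g ^ 5 * a * (g ^ 5)⁻¹ := by
        simp only [pow5, mul_inv_rev, mul_assoc]
      rw [h6, hg5, one_mul, inv_one, mul_one] at h4
      exact h4
    obtain ⟨x, hx5, hx1⟩ := exists5 e
    exact hx1 (cen5 e (fun a => Subtype.ext (T.comm _ x.2 _ (h3 _ a.2))) hx5)
  have hinv : ∀ (L : Subgroup (V ≃ₗ[ZMod p] V)), (∀ l ∈ L, g * l * g⁻¹ ∈ L) → ∀ l ∈ L, g⁻¹ * l * g⁻¹⁻¹ ∈ L := by
    intro L hL l hl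
    have h4 := hL _ (hL _ (hL _ (hL l hl)))
    have h6 : g * (g * (g * (g * l * g⁻¹) * g⁻¹) * g⁻¹) * g⁻¹ = g⁻¹ * (g ^ 5 * l * (g ^ 5)⁻¹) * g⁻¹⁻¹ := by
      simp only [pow5, mul_inv_rev, mul_assoc, inv_inv, inv_mul_cancel_left, inv_mul_cancel, mul_one]
    rw [h6, hg5, one_mul, inv_one, mul_one] at h4
    exact h4
  have hin : ∀ (L : Subgroup (V ≃ₗ[ZMod p] V)) (_ : L ≃* SL5), (∀ l ∈ L, g * l * g⁻¹ ∈ L) →
      ∃ x : L, x ^ 5 = 1 ∧ ∀ l ∈ L, g * l * g⁻¹ = x * l * (x : V ≃ₗ[ZMod p] V)⁻¹ := by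
    intro L eL hL
    set α : MulAut L := H578.HT.cj g L hL (hinv L hL) with hα
    have hαk : ∀ (k : ℕ) (l : L), ((α ^ k) l : V ≃ₗ[ZMod p] V) = g ^ k * l * (g ^ k)⁻¹ := by
      intro k
      induction k with
      | zero => intro l; simp
      | succ k ih =>
        intro l
        rw [pow_succ, MulAut.mul_apply, ih]
        change g ^ k * (g * l * g⁻¹) * (g ^ k)⁻¹ = _
        rw [pow_succ]
        group
    have hαr : α ^ 5 = 1 := by
      ext l : 1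
      refine Subtype.ext ?_
      rw [hαk, hg5]
      simp
    obtain ⟨x, hx5, hx⟩ := inner5 eL α hαr
    exact ⟨x, hx5, fun l hl => congrArg Subtype.val (hx ⟨l, hl⟩)⟩
  obtain ⟨x, hx5, hx⟩ := hin A e hnorm.1
  obtain ⟨y, hy5, hy⟩ := hin B e' hnorm.2
  set X : V ≃ₗ[ZMod p] V := x.1 with hX
  set Y : V ≃ₗ[ZMod p] V := y.1 with hY
  have hXY : X * Y = Y * X := T.comm _ x.2 _ y.2
  obtain ⟨c, hc⟩ := T.sch (((X * Y)⁻¹ * g : V ≃ₗ[ZMod p] V) : V →+ V) (by
    intro a ha v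
    have h1 : (X * Y)⁻¹ * g * a = a * ((X * Y)⁻¹ * g) := by
      have h2 : g * a = X * a * X⁻¹ * g := by rw [← hx a ha, inv_mul_cancel_right]
      have h3 : a * Y⁻¹ = Y⁻¹ * a := T.comm _ ha _ (B.inv_mem y.2)
      rw [mul_assoc, h2, mul_inv_rev]
      calc Y⁻¹ * X⁻¹ * (X * a * X⁻¹ * g) = (Y⁻¹ * a) * X⁻¹ * g := by group
        _ = a * (Y⁻¹ * X⁻¹ * g) := by rw [← h3]; group
    exact congrArg (fun t : V ≃ₗ[ZMod p] V => t v) h1) (by
    intro b hb v
    have h1 : (X * Y)⁻¹ * g * b = b * ((X * Y)⁻¹ * g) := by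
      have h2 : g * b = Y * b * Y⁻¹ * g := by rw [← hy b hb, inv_mul_cancel_right]
      have h3 : X⁻¹ * b = b * X⁻¹ := T.comm _ (A.inv_mem x.2) _ hb
      rw [mul_assoc, h2, hXY, mul_inv_rev]
      calc X⁻¹ * Y⁻¹ * (Y * b * Y⁻¹ * g) = (X⁻¹ * b) * Y⁻¹ * g := by group
        _ = b * (X⁻¹ * Y⁻¹ * g) := by rw [h3]; group
    exact congrArg (fun t : V ≃ₗ[ZMod p] V => t v) h1)
  have hg : ∀ u, g u = c • (X * Y) u := by
    intro u
    have h1 : ((X * Y)⁻¹ * g) u = c • u := hc u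
    have h2 : g u = (X * Y) (((X * Y)⁻¹ * g) u) := by
      change _ = ((X * Y) * ((X * Y)⁻¹ * g)) u
      rw [mul_inv_cancel_left]
    rw [h2, h1]
    change X (Y (c • u)) = c • X (Y u)
    rw [T.linB _ y.2, T.linA _ x.2]
  have hc0 : c ≠ 0 := by
    rintro rfl
    apply hv
    rw [← hgv, hg, zero_smul]
  refine ⟨x, y, hx5, hy5, ?_, c⁻¹, ?_⟩
  · rintro ⟨rfl, rfl⟩
    have h1 : ∀ u, g u = c • u := by
      intro u
      rw [hg]; rfl
    have h2 : c = 1 := by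
      have h3 := h1 v
      rw [hgv] at h3
      have h4 : (c - 1) • v = 0 := by rw [sub_smul, one_smul, ← h3, sub_self]
      rcases smul_eq_zero.1 h4 with h5 | h5
      · exact sub_eq_zero.1 h5
      · exact absurd h5 hv
    apply hg1
    ext u
    rw [h1, h2, one_smul]; rfl
  · have h1 := hg v
    rw [hgv] at h1
    conv_rhs => rw [h1]
    rw [smul_smul, inv_mul_cancel₀ hc0, one_smul]

/-- every non-zero vector is an eigenvector of `l c` for at least four pairs `(l, c)` -/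
theorem tt_four [Finite V] (T : TT p K V W W' G A B h) (e : A ≃* SL5) (e' : B ≃* SL5) {v : V} (hv : v ≠ 0) :
    ∃ f : Fin 4 → A × B, Function.Injective f ∧ ∀ i, (f i).1 ^ 5 = 1 ∧ (f i).2 ^ 5 = 1 ∧ f i ≠ 1 ∧
      ∃ c : K, (((f i).1 : V ≃ₗ[ZMod p] V) * ((f i).2 : V ≃ₗ[ZMod p] V)) v = c • v := by
  obtain ⟨x, y, hx, hy, hxy, c, hc⟩ := tt_cover T e e' hv
  have : Fact (Nat.Prime 5) := ⟨by norm_num⟩
  set z : A × B := (x, y) with hz
  have hz5 : z ^ 5 = 1 := Prod.ext hx hy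
  have hz1 : z ≠ 1 := fun h => hxy ⟨congrArg Prod.fst h, congrArg Prod.snd h⟩
  have ho : orderOf z = 5 := orderOf_eq_prime hz5 hz1
  have hcomm : (x : V ≃ₗ[ZMod p] V) * y = y * x := T.comm _ x.2 _ y.2
  refine ⟨fun i => z ^ (i.1 + 1), ?_, ?_⟩
  · intro i j hij
    have h1 : z ^ (i.1 + 1) = z ^ (j.1 + 1) := hij
    have h2 := pow_injOn_Iio_orderOf (x := z) (Set.mem_Iio.2 (by rw [ho]; omega)) (Set.mem_Iio.2 (by rw [ho]; omega)) h1
    exact Fin.ext (by omega)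
  · intro i
    refine ⟨?_, ?_, ?_, ?_⟩
    · change (x ^ (i.1 + 1)) ^ 5 = 1
      rw [← pow_mul, mul_comm, pow_mul, hx, one_pow]
    · change (y ^ (i.1 + 1)) ^ 5 = 1
      rw [← pow_mul, mul_comm, pow_mul, hy, one_pow]
    · intro h1
      have h2 := orderOf_dvd_of_pow_eq_one h1
      rw [ho] at h2
      have := Nat.le_of_dvd (by omega) h2
      omega
    · have key : ∀ k : ℕ, (((x ^ k : A) : V ≃ₗ[ZMod p] V) * ((y ^ k : B) : V ≃ₗ[ZMod p] V)) v = (c ^ k) • v := by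
        intro k
        have h3 : (((x ^ k : A) : V ≃ₗ[ZMod p] V) * ((y ^ k : B) : V ≃ₗ[ZMod p] V)) =
            ((x : V ≃ₗ[ZMod p] V) * y) ^ k := by
          rw [Subgroup.coe_pow, Subgroup.coe_pow]
          exact ((show Commute (x : V ≃ₗ[ZMod p] V) y from hcomm).mul_pow k).symm
        rw [h3]
        clear h3
        have hlin : ∀ (c : K) (u : V), (((x : V ≃ₗ[ZMod p] V) * y)) (c • u) = c • (((x : V ≃ₗ[ZMod p] V) * y)) u := by
          intro c u
          change (x : V ≃ₗ[ZMod p] V) ((y : V ≃ₗ[ZMod p] V) (c • u)) = _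
          rw [T.linB _ y.2, T.linA _ x.2]; rfl
        induction k with
        | zero => rw [pow_zero, pow_zero, one_smul]; rfl
        | succ k ih =>
          rw [pow_succ', pow_succ]
          change (((x : V ≃ₗ[ZMod p] V) * y)) ((((x : V ≃ₗ[ZMod p] V) * y) ^ k) v) = _
          rw [ih, hlin, hc, smul_smul]
      exact ⟨_, key (i.1 + 1)⟩

/-- a pair `(l, c) ≠ 1` has at most `2 (q ^ 2 - 1)` non-zero eigenvectors -/
theorem tt_eig [Finite V] [Finite K] (T : TT p K V W W' G A B h) (e : A ≃* SL5) (e' : B ≃* SL5)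
    {z : A × B} (h1 : z.1 ^ 5 = 1) (h2 : z.2 ^ 5 = 1) (hz : z ≠ 1) :
    Nat.card {v : V // v ≠ 0 ∧ ∃ c : K, ((z.1 : V ≃ₗ[ZMod p] V) * (z.2 : V ≃ₗ[ZMod p] V)) v = c • v} ≤
      2 * (Nat.card K ^ 2 - 1) := by
  obtain ⟨x, y⟩ := z
  have : Module.Finite K V := Module.Finite.of_finite
  let l : End K V :=
    { toFun := fun v => (x : V ≃ₗ[ZMod p] V) v
      map_add' := map_add _
      map_smul' := fun c v => T.linA _ x.2 c v }
  let c : End K V :=
    { toFun := fun v => (y : V ≃ₗ[ZMod p] V) v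
      map_add' := map_add _
      map_smul' := fun c v => T.linB _ y.2 c v }
  have hl : l ∈ linSet K V (A : Set (V ≃ₗ[ZMod p] V)) := ⟨x, x.2, fun v => rfl⟩
  have hc : c ∈ linSet K V (B : Set (V ≃ₗ[ZMod p] V)) := ⟨y, y.2, fun v => rfl⟩
  have hlc : l ∘ₗ c = c ∘ₗ l := by
    ext v
    exact congrArg (fun t : V ≃ₗ[ZMod p] V => t v) (T.comm _ x.2 _ y.2)
  have hinj : Function.Injective (l ∘ₗ c) := by
    intro a b hab
    exact (y : V ≃ₗ[ZMod p] V).injective ((x : V ≃ₗ[ZMod p] V).injective hab)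
  have h4 : finrank K V = 2 * 2 := by rw [finrank_dec T.D, T.rkW, T.rkW']
  refine eig_count (l ∘ₗ c) (d := 2) (k := 2) ?_ (by norm_num) h4.le
  intro k
  by_contra hk
  have h3 : 3 ≤ finrank K (End.eigenspace (l ∘ₗ c) k) := by omega
  apply hz
  obtain ⟨m, hm⟩ := scalar_left T.D T.rkW T.rkW' hl hc hinj h3
  obtain ⟨m', hm'⟩ := scalar_right T.D T.rkW T.rkW' hl hc hlc hinj h3
  refine Prod.ext ?_ ?_
  · refine cen5 e (fun a => Subtype.ext (LinearEquiv.ext fun v => ?_)) h1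
    change l ((a : V ≃ₗ[ZMod p] V) v) = (a : V ≃ₗ[ZMod p] V) (l v)
    rw [hm, hm, T.linA _ a.2]
  · refine cen5 e' (fun b => Subtype.ext (LinearEquiv.ext fun v => ?_)) h2
    change c ((b : V ≃ₗ[ZMod p] V) v) = (b : V ≃ₗ[ZMod p] V) (c v)
    rw [hm', hm', T.linB _ b.2]

/-- **[X2]** -/
theorem tt_cov [Finite V] [Finite K] (T : TT p K V W W' G A B h)
    (eA : Nonempty (A ≃* Matrix.SpecialLinearGroup (Fin 2) (ZMod 5)))
    (eB : Nonempty (B ≃* Matrix.SpecialLinearGroup (Fin 2) (ZMod 5))) : Nat.card K ^ 2 + 1 ≤ 312 := by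
  classical
  obtain ⟨e⟩ := eA
  obtain ⟨e'⟩ := eB
  have : Module.Finite K V := Module.Finite.of_finite
  have : Finite A := Finite.of_equiv _ e.symm.toEquiv
  have : Finite B := Finite.of_equiv _ e'.symm.toEquiv
  let _ : Fintype V := Fintype.ofFinite V
  let _ : Fintype (A × B) := Fintype.ofFinite (A × B)
  set q := Nat.card K with hq
  have hq1 : 1 < q := Finite.one_lt_card
  let s : Finset V := Finset.univ.filter (fun v => v ≠ 0)
  let t : Finset (A × B) := Finset.univ.filter (fun z => (z.1 ^ 5 = 1 ∧ z.2 ^ 5 = 1) ∧ z ≠ 1)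
  let r : V → A × B → Prop := fun v z => ∃ c : K, ((z.1 : V ≃ₗ[ZMod p] V) * (z.2 : V ≃ₗ[ZMod p] V)) v = c • v
  have hs : s.card = q ^ 4 - 1 := by
    have h1 : Nat.card {v : V // v ≠ 0} = s.card := by
      rw [Nat.card_eq_fintype_card, Fintype.card_subtype]
    rw [← h1, H578.HT.natCard_ne_zero, Module.natCard_eq_pow_finrank (K := K), finrank_dec T.D, T.rkW, T.rkW']
  have ht : t.card = 624 := by
    have h1 : t = (Finset.univ.filter (fun z : A × B => (z.1 ^ 5 = 1 ∧ z.2 ^ 5 = 1))).erase 1 := by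
      ext z
      simp [t, and_comm]
    have h2 : (Finset.univ.filter (fun z : A × B => (z.1 ^ 5 = 1 ∧ z.2 ^ 5 = 1))).card = 625 := by
      rw [← Fintype.card_subtype, ← Nat.card_eq_fintype_card]
      have h3 : {z : A × B // z.1 ^ 5 = 1 ∧ z.2 ^ 5 = 1} ≃ {a : A // a ^ 5 = 1} × {b : B // b ^ 5 = 1} :=
        { toFun := fun z => (⟨z.1.1, z.2.1⟩, ⟨z.1.2, z.2.2⟩)
          invFun := fun z => ⟨(z.1.1, z.2.1), z.1.2, z.2.2⟩
          left_inv := fun z => rfl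
          right_inv := fun z => rfl }
      rw [Nat.card_congr h3, Nat.card_prod, card5 e, card5 e']
    rw [h1, Finset.card_erase_of_mem (by simp), h2]
  have hm : ∀ v ∈ s, 4 ≤ (t.bipartiteAbove r v).card := by
    intro v hv
    obtain ⟨f, hf, hf'⟩ := tt_four T e e' (Finset.mem_filter.1 hv).2
    have h1 : (Finset.univ.image f).card = 4 := by
      rw [Finset.card_image_of_injective _ hf, Finset.card_univ, Fintype.card_fin]
    rw [← h1]
    refine Finset.card_le_card ?_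
    intro z hz
    obtain ⟨i, -, rfl⟩ := Finset.mem_image.1 hz
    obtain ⟨h2, h3, h4, h5⟩ := hf' i
    exact Finset.mem_filter.2 ⟨Finset.mem_filter.2 ⟨Finset.mem_univ _, ⟨h2, h3⟩, h4⟩, h5⟩
  have hn : ∀ z ∈ t, (s.bipartiteBelow r z).card ≤ 2 * (q ^ 2 - 1) := by
    intro z hz
    obtain ⟨-, ⟨h1, h2⟩, h3⟩ := Finset.mem_filter.1 hz
    refine le_trans (le_of_eq ?_) (tt_eig T e e' h1 h2 h3)
    rw [Nat.card_eq_fintype_card, Fintype.card_subtype]
    congr 1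
    ext v
    constructor
    · intro hv
      have h4 := Finset.mem_filter.1 hv
      exact Finset.mem_filter.2 ⟨Finset.mem_univ _, (Finset.mem_filter.1 h4.1).2, h4.2⟩
    · intro hv
      have h4 := (Finset.mem_filter.1 hv).2
      exact Finset.mem_filter.2 ⟨Finset.mem_filter.2 ⟨Finset.mem_univ _, h4.1⟩, h4.2⟩
  have key := Finset.card_mul_le_card_mul r hm hn
  rw [hs, ht] at key
  -- `(q ^ 4 - 1) * 4 ≤ 624 * (2 * (q ^ 2 - 1))`
  obtain ⟨Q, hQ⟩ : ∃ Q, q ^ 2 = Q + 2 := ⟨q ^ 2 - 2, by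
    have : 2 ≤ q ^ 2 := by nlinarith
    omega⟩
  have h4 : q ^ 4 = (Q + 2) * (Q + 2) := by rw [← hQ]; ring
  rw [h4, hQ] at key
  rw [hQ]
  have h5 : (Q + 2) * (Q + 2) - 1 = (Q + 1) * (Q + 3) := by
    have : (Q + 2) * (Q + 2) = (Q + 1) * (Q + 3) + 1 := by ring
    omega
  have h6 : Q + 2 - 1 = Q + 1 := by omega
  rw [h5, h6] at key
  have h7 : (Q + 1) * (4 * (Q + 3)) ≤ (Q + 1) * 1248 := by nlinarith
  have h8 := Nat.le_of_mul_le_mul_left h7 (by omega)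
  omega

end Cfsg.Agent.H199.HT
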